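import Groth.Agent.Lib.FibDepth5.UpSetConstr
import Groth.Agent.Lib.FibreTop.Apps
import Groth.Agent.Lib.FibDim4.GenericFP

/-!
# Dimensions of the irreducible components of constructible sets in the fibres (EGA IV 9.5)
-/

set_option autoImplicit false
universe u
set_option linter.style.haveILetI false
set_option backward.isDefEq.respectTransparency false

open CategoryTheory AlgebraicGeometry TopologicalSpace Topology
open Groth.Agent.FibDim14 Groth.Agent.FibDepth5

namespace Groth.Agent.Cons12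

section Top

variable {α : Type*} [TopologicalSpace α]

theorem closure_mem_irreducibleComponents_iff [QuasiSober α] [T0Space α] (z : α) :
    closure {z} ∈ irreducibleComponents α ↔ ∀ z', z' ⤳ z → z' = z := by
  constructor
  · intro h z' hz'
    have hsub : closure {z} ⊆ closure {z'} := closure_minimal
      (Set.singleton_subset_iff.2 (specializes_iff_mem_closure.1 hz')) isClosed_closure
    have heq := h.2 isIrreducible_singleton.closure hsub
    exact (inseparable_iff_closure_eq.2 (le_antisymm heq hsub)).eq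
  · intro h
    let c : irreducibleComponents α := ⟨irreducibleComponent z, irreducibleComponent_mem_irreducibleComponents z⟩
    let g := genericPoints.ofComponent c
    have hg : closure {g.1} = c.1 := (genericPoints.isGenericPoint_ofComponent c).def
    have : g.1 = z := h _ (specializes_iff_mem_closure.2 (hg.symm ▸ mem_irreducibleComponent))
    rw [← this, hg]
    exact c.2

/-- The dimensions of the components, through maximal points. -/
theorem image_dim_irreducibleComponents [QuasiSober α] [T0Space α] :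
    (fun T : Set α => topologicalKrullDim T) '' irreducibleComponents α =
      {d | ∃ z : α, (∀ z', z' ⤳ z → z' = z) ∧ topologicalKrullDim (closure ({z} : Set α)) = d} := by
  ext d
  constructor
  · rintro ⟨T, hT, rfl⟩
    let g := genericPoints.ofComponent ⟨T, hT⟩
    have hg : closure {g.1} = T := (genericPoints.isGenericPoint_ofComponent ⟨T, hT⟩).def
    exact ⟨g.1, (closure_mem_irreducibleComponents_iff _).1 (hg.symm ▸ hT), by rw [hg]⟩
  · rintro ⟨z, hz, rfl⟩
    exact ⟨_, (closure_mem_irreducibleComponents_iff z).2 hz, rfl⟩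

theorem image_dim_irreducibleComponents_homeomorph {β : Type*} [TopologicalSpace β] [QuasiSober α] [T0Space α]
    (h : α ≃ₜ β) :
    (fun T : Set β => topologicalKrullDim T) '' irreducibleComponents β =
      (fun T : Set α => topologicalKrullDim T) '' irreducibleComponents α := by
  haveI : T0Space β := h.symm.isEmbedding.t0Space
  haveI : QuasiSober β := h.symm.isClosedEmbedding.quasiSober
  rw [image_dim_irreducibleComponents, image_dim_irreducibleComponents]
  have hdim : ∀ z : α, topologicalKrullDim (closure ({h z} : Set β)) = topologicalKrullDim (closure ({z} : Set α)) := by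
    intro z
    rw [← Set.image_singleton, ← h.image_closure]
    exact (IsHomeomorph.topologicalKrullDim_eq _ (h.image (closure {z})).isHomeomorph).symm
  ext d
  constructor
  · rintro ⟨w, hw, rfl⟩
    obtain ⟨z, rfl⟩ := h.surjective w
    exact ⟨z, fun z' hz' => h.injective (hw _ (hz'.map h.continuous)), (hdim z).symm⟩
  · rintro ⟨z, hz, rfl⟩
    refine ⟨h z, fun w hw => ?_, hdim z⟩
    obtain ⟨z', rfl⟩ := h.surjective w
    rw [hz z' (h.isInducing.specializes_iff.1 hw)]

end Top

/-- Dimensions of components of a locally closed subset of a scheme of finite type over a field. -/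
theorem image_dim_components_locallyClosed {k : Type u} [Field k] {V : Scheme.{u}}
    (g : V ⟶ Spec (CommRingCat.of k)) [LocallyOfFiniteType g] {Z : Set V} (hZ : IsLocallyClosed Z) :
    (fun T : Set Z => topologicalKrullDim T) '' irreducibleComponents Z =
      {d | ∃ z ∈ Z, (∀ z' ∈ Z, z' ⤳ z → z' = z) ∧ (VarDim.sdim g z : WithBot ℕ∞) = d} := by
  obtain ⟨U, C, hU, hC, rfl⟩ := hZ
  haveI : QuasiSober U := hU.isOpenEmbedding_subtypeVal.quasiSober
  haveI : QuasiSober (U ∩ C : Set V) := QuasiSober.inter_of_isClosed_of_quasiSober_left U hC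
  rw [image_dim_irreducibleComponents]
  let O : V.Opens := ⟨U, hU⟩
  have hsp : ∀ a b : ↥(U ∩ C), a ⤳ b ↔ a.1 ⤳ b.1 := fun a b => IsInducing.subtypeVal.specializes_iff.symm
  have hdim : ∀ z : ↥(U ∩ C), topologicalKrullDim (closure ({z} : Set ↥(U ∩ C))) = (VarDim.sdim g z.1 : WithBot ℕ∞) := by
    intro z
    let zO : O.toScheme := ⟨z.1, z.2.1⟩
    have h1 : VarDim.sdim g z.1 = VarDim.sdim (O.ι ≫ g) zO := (VarDim.sdim_comp_of_surjective g O.ι zO).symm
    rw [h1, ← VarDim.dim_closure_singleton (O.ι ≫ g) zO]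
    have hO : ∀ w : O.toScheme, w ∈ closure ({zO} : Set O.toScheme) ↔ z.1 ⤳ O.ι w := fun w => by
      rw [← specializes_iff_mem_closure]
      exact O.ι.isEmbedding.isInducing.specializes_iff.symm
    have hA : ∀ w : ↥(U ∩ C), w ∈ closure ({z} : Set ↥(U ∩ C)) ↔ z.1 ⤳ w.1 := fun w => by
      rw [← specializes_iff_mem_closure]
      exact hsp z w
    let e : closure ({z} : Set ↥(U ∩ C)) ≃ₜ closure ({zO} : Set O.toScheme) :=
      { toFun := fun w => ⟨⟨w.1.1, w.1.2.1⟩, (hO _).2 ((hA _).1 w.2)⟩
        invFun := fun w => ⟨⟨(show Subtype (· ∈ O) from w.1).1, (show Subtype (· ∈ O) from w.1).2,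
            ((hO _).1 w.2).mem_closed hC z.2.2⟩, (hA _).2 ((hO _).1 w.2)⟩
        left_inv := fun _ => rfl
        right_inv := fun _ => rfl
        continuous_toFun := by fun_prop
        continuous_invFun := by fun_prop }
    exact IsHomeomorph.topologicalKrullDim_eq _ e.isHomeomorph
  ext d
  constructor
  · rintro ⟨z, hz, rfl⟩
    exact ⟨z.1, z.2, fun z' hz' hs => congrArg Subtype.val (hz ⟨z', hz'⟩ ((hsp _ _).2 hs)), (hdim z).symm⟩
  · rintro ⟨z, hzZ, hz, rfl⟩
    exact ⟨⟨z, hzZ⟩, fun z' hs => Subtype.ext (hz z'.1 z'.2 ((hsp _ _).1 hs)), hdim _⟩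

variable {X S : Scheme.{u}} (f : X ⟶ S)

/-- The set of residual degrees of maximal points of `Z` in the fibre over `s`. -/
def maxDims [LocallyOfFiniteType f] (Z : Set X) (s : S) : Set ℕ :=
  {n | ∃ x ∈ Z, f x = s ∧ rd f x = n ∧ ∀ x' ∈ Z, f x' = f x → x' ⤳ x → x' = x}

theorem mem_image_upSet [LocallyOfFiniteType f] {Z : Set X} {n : ℕ} {s : S} :
    s ∈ f '' upSet f Z n ↔ ∃ x ∈ Z, f x = s ∧ n ≤ rd f x := by
  constructor
  · rintro ⟨x, ⟨x', -, he, hZ, hn⟩, rfl⟩
    exact ⟨x', hZ, he, hn⟩
  · rintro ⟨x, hZ, rfl, hn⟩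
    exact ⟨x, ⟨x, specializes_rfl, rfl, hZ, hn⟩, rfl⟩

theorem mem_maxDims_iff [LocallyOfFiniteType f] {Z : Set X} {n : ℕ} {s : S} :
    n ∈ maxDims f Z s ↔ s ∈ f '' upSet f (Z \ upSet f Z (n + 1)) n := by
  rw [mem_image_upSet]
  constructor
  · rintro ⟨x, hx, hs, rfl, hmax⟩
    refine ⟨x, ⟨hx, fun ⟨x', h1, h2, h3, h4⟩ => ?_⟩, hs, le_rfl⟩
    rw [hmax x' h3 h2 h1] at h4
    omega
  · rintro ⟨x, ⟨hx, hup⟩, hs, hn⟩
    have hle : rd f x ≤ n := Nat.le_of_not_lt fun hlt => hup ⟨x, specializes_rfl, rfl, hx, hlt⟩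
    refine ⟨x, hx, hs, le_antisymm hle hn, fun x' hx' he hsp => ?_⟩
    by_contra hne
    have := rd_lt_of_specializes f hsp hne he
    exact hup ⟨x', hsp, he, hx', by omega⟩

theorem isLocallyConstructible_mem_maxDims [LocallyOfFinitePresentation f] [QuasiCompact f]
    {Z : Set X} (hZ : IsLocallyConstructible Z) (n : ℕ) :
    IsLocallyConstructible {s : S | n ∈ maxDims f Z s} := by
  refine (congrArg IsLocallyConstructible (Set.ext fun s => (mem_maxDims_iff f).symm)).mp
    (f.isLocallyConstructible_image (isLocallyConstructible_upSet f (hZ.inter ?_) n))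
  exact AnPtsTop.isLocallyConstructible_compl (isLocallyConstructible_upSet f hZ _)

theorem exists_rd_bound [LocallyOfFiniteType f] [QuasiCompact f] {U : Set S} (hUo : IsOpen U) (hU : IsCompact U) :
    ∃ K, ∀ x : X, f x ∈ U → rd f x ≤ K := by
  have hc : IsCompact (f ⁻¹' U) := QuasiCompact.isCompact_preimage (f := f) U hUo hU
  obtain ⟨t, ht⟩ := hc.elim_finite_subcover (fun n : ℕ => {x : X | FlatMor.fibreDimAt f x ≤ (n : WithBot ℕ∞)})
    (fun n => isOpen_fibreDimAt_le f n) (fun x _ => by
      obtain ⟨x', -, -, hd, -⟩ := exists_fibreDimAt_eq f x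
      exact Set.mem_iUnion.2 ⟨rd f x', hd.le⟩)
  refine ⟨t.sup id, fun x hx => ?_⟩
  obtain ⟨n, hn, hxn⟩ := Set.mem_iUnion₂.1 (ht hx)
  exact ((fibreDimAt_le_iff f).1 hxn x specializes_rfl rfl).trans (Finset.le_sup (f := id) hn)

/-- Level sets of a family of constructible conditions. -/
theorem isLocallyConstructible_level (E : ℕ → Set S) (hE : ∀ n, IsLocallyConstructible (E n))
    (hb : ∀ U : Set S, IsOpen U → IsCompact U → ∃ K, ∀ s ∈ U, ∀ n, s ∈ E n → n ≤ K) (Φ : Set ℕ) :
    IsLocallyConstructible {s : S | {n | s ∈ E n} = Φ} := by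
  classical
  intro s₀
  obtain ⟨U, hU, hs, -⟩ := exists_isAffineOpen_mem_and_subset (X := S) (x := s₀) (U := ⊤) trivial
  obtain ⟨K, hK⟩ := hb U U.2 hU.isCompact
  refine ⟨U, U.2.mem_nhds hs, U.2, ?_⟩
  haveI : IsAffine U.toScheme := hU
  haveI : CompactSpace (U : Set S) := inferInstanceAs (CompactSpace U.toScheme)
  haveI : QuasiSeparatedSpace (U : Set S) := inferInstanceAs (QuasiSeparatedSpace U.toScheme)
  haveI : PrespectralSpace (U : Set S) := inferInstanceAs (PrespectralSpace U.toScheme)
  by_cases hΦ : ∀ n ∈ Φ, n ≤ K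
  · have h : IsLocallyConstructible (⋂ n : Fin (K + 1), if (n : ℕ) ∈ Φ then E n else (E n)ᶜ) :=
      IsLocallyConstructible.iInter fun n => by
        split_ifs
        · exact hE n
        · exact AnPtsTop.isLocallyConstructible_compl (hE n)
    refine (congrArg IsConstructible (Set.ext fun u => ?_)).mp
      ((h.preimage_of_isOpenEmbedding U.2.isOpenEmbedding_subtypeVal).isConstructible)
    rw [Set.mem_preimage, Set.mem_preimage, Set.mem_iInter, Set.mem_setOf_eq]
    constructor
    · intro hu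
      ext n
      constructor
      · intro hn
        have hh := hu ⟨n, Nat.lt_succ_of_le (hK u.1 u.2 n hn)⟩
        by_contra hnΦ
        rw [if_neg hnΦ] at hh
        exact hh hn
      · intro hn
        have hh := hu ⟨n, Nat.lt_succ_of_le (hΦ n hn)⟩
        rwa [if_pos hn] at hh
    · intro hu n
      split_ifs with hn
      · exact hu.ge hn
      · exact fun h' => hn (hu.le h')
  · push Not at hΦ
    obtain ⟨n, hn, hlt⟩ := hΦ
    refine (congrArg IsConstructible (Set.ext fun u => ?_)).mp (IsConstructible.empty)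
    rw [Set.mem_empty_iff_false, false_iff, Set.mem_preimage, Set.mem_setOf_eq]
    exact fun hu => absurd (hK u.1 u.2 n (hu.ge hn)) (not_le.2 hlt)

/-- Level sets with values written in `WithBot ℕ∞`. -/
theorem isLocallyConstructible_level_cast (E : ℕ → Set S) (hE : ∀ n, IsLocallyConstructible (E n))
    (hb : ∀ U : Set S, IsOpen U → IsCompact U → ∃ K, ∀ s ∈ U, ∀ n, s ∈ E n → n ≤ K) (Φ : Set (WithBot ℕ∞)) :
    IsLocallyConstructible {s : S | (fun n : ℕ => (n : WithBot ℕ∞)) '' {n | s ∈ E n} = Φ} := by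
  let c : ℕ → WithBot ℕ∞ := fun n => (n : WithBot ℕ∞)
  have hinj : Function.Injective c := fun a b h => by
    have h' : ((a : ℕ∞) : WithBot ℕ∞) = ((b : ℕ∞) : WithBot ℕ∞) := h
    exact_mod_cast h'
  by_cases h : Φ ⊆ Set.range c
  · refine (congrArg IsLocallyConstructible (Set.ext fun s => ?_)).mp (isLocallyConstructible_level E hE hb (c ⁻¹' Φ))
    show {n | s ∈ E n} = c ⁻¹' Φ ↔ c '' {n | s ∈ E n} = Φ
    constructor
    · intro hh
      rw [hh, Set.image_preimage_eq_of_subset h]
    · intro hh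
      rw [← hh, Set.preimage_image_eq _ hinj]
  · refine (congrArg IsLocallyConstructible (Set.ext fun s => ?_)).mp IsLocallyConstructible.empty
    rw [Set.mem_empty_iff_false, false_iff]
    exact fun hh => h (hh ▸ Set.image_subset_range _ _)

theorem isLocallyConstructible_maxDims_eq [LocallyOfFinitePresentation f] [QuasiCompact f]
    {Z : Set X} (hZ : IsLocallyConstructible Z) (Φ : Set (WithBot ℕ∞)) :
    IsLocallyConstructible {s : S | (fun n : ℕ => (n : WithBot ℕ∞)) '' maxDims f Z s = Φ} :=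
  isLocallyConstructible_level_cast (fun n => {s | n ∈ maxDims f Z s})
    (isLocallyConstructible_mem_maxDims f hZ)
    (fun U hUo hU => by
      obtain ⟨K, hK⟩ := exists_rd_bound f hUo hU
      exact ⟨K, fun s hs n ⟨x, _, he, hn, _⟩ => hn ▸ hK x (he.symm ▸ hs)⟩) Φ

/-- Components of a fibrewise locally closed set in the scheme theoretic fibre. -/
theorem image_dim_components_fiber [LocallyOfFiniteType f] (Z : Set X) (s : S)
    (hZ : IsLocallyClosed (f.fiberι s ⁻¹' Z)) :
    (fun T : Set ↥(f.fiberι s ⁻¹' Z) => topologicalKrullDim T) '' irreducibleComponents ↥(f.fiberι s ⁻¹' Z) =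
      (fun n : ℕ => (n : WithBot ℕ∞)) '' maxDims f Z s := by
  haveI : LocallyOfFiniteType (toPt f s) := inferInstance
  rw [image_dim_components_locallyClosed (k := S.residueField s) (toPt f s) hZ]
  have hsp : ∀ a b : f.fiber s, f.fiberι s a ⤳ f.fiberι s b ↔ a ⤳ b := fun a b =>
    (f.fiberι s).isEmbedding.isInducing.specializes_iff
  have hbase : ∀ z : f.fiber s, f (f.fiberι s z) = s := fun z => (f.range_fiberι s).le ⟨z, rfl⟩
  ext d
  constructor
  · rintro ⟨z, hz, hmax, rfl⟩
    refine ⟨_, ⟨f.fiberι s z, hz, hbase z, rfl, fun x' hx' he hs => ?_⟩, by rw [rd_fiberι]⟩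
    obtain ⟨w, rfl⟩ : x' ∈ Set.range (f.fiberι s) := (f.range_fiberι s).ge (he.trans (hbase z))
    rw [hmax w hx' ((hsp _ _).1 hs)]
  · rintro ⟨n, ⟨x, hx, he, rfl, hmax⟩, rfl⟩
    obtain ⟨z, rfl⟩ : x ∈ Set.range (f.fiberι s) := (f.range_fiberι s).ge he
    refine ⟨z, hx, fun z' hz' hs => ?_, by rw [rd_fiberι]⟩
    exact (f.fiberι s).isEmbedding.injective (hmax _ hz' ((hbase z').trans (hbase z).symm) ((hsp _ _).2 hs))

/-- Components of a fibrewise locally closed set in the topological fibre. -/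
theorem image_dim_components_preimage [LocallyOfFiniteType f] (Z : Set X) (s : S)
    (hZ : IsLocallyClosed (Subtype.val ⁻¹' Z : Set ↥(f ⁻¹' {s}))) :
    (fun T : Set ↥(Z ∩ f ⁻¹' {s}) => topologicalKrullDim T) '' irreducibleComponents ↥(Z ∩ f ⁻¹' {s}) =
      (fun n : ℕ => (n : WithBot ℕ∞)) '' maxDims f Z s := by
  have hZ' : IsLocallyClosed (f.fiberι s ⁻¹' Z) := hZ.preimage (f.fiberHomeo s).continuous
  rw [← image_dim_components_fiber f Z s hZ']
  let h : ↥(f.fiberι s ⁻¹' Z) ≃ₜ ↥(Z ∩ f ⁻¹' {s}) :=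
    { toFun := fun w => ⟨f.fiberι s w.1, w.2, (f.range_fiberι s).le ⟨w.1, rfl⟩⟩
      invFun := fun w => ⟨(f.fiberHomeo s).symm ⟨w.1, w.2.2⟩, by
        rw [Set.mem_preimage, f.fiberι_fiberHomeo_symm]
        exact w.2.1⟩
      left_inv := fun w => Subtype.ext ((f.fiberι s).isEmbedding.injective (f.fiberι_fiberHomeo_symm _ _))
      right_inv := fun w => Subtype.ext (f.fiberι_fiberHomeo_symm _ _)
      continuous_toFun := by fun_prop
      continuous_invFun := by fun_prop }
  haveI : QuasiSober ↥(f.fiberι s ⁻¹' Z) := by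
    obtain ⟨U, C, hU, hC, he⟩ := hZ'
    rw [he]
    haveI : QuasiSober U := hU.isOpenEmbedding_subtypeVal.quasiSober
    exact QuasiSober.inter_of_isClosed_of_quasiSober_left U hC
  exact image_dim_irreducibleComponents_homeomorph h

/-- A locally constructible set containing the generic point is a neighbourhood of it. -/
theorem exists_nhd_generic {S : Scheme.{u}} [AlgebraicGeometry.IsNoetherian S] [IrreducibleSpace S] {E : Set S}
    (hE : IsLocallyConstructible E) (h : genericPoint S ∈ E) :
    ∃ U : S.Opens, genericPoint S ∈ U ∧ (U : Set S) ⊆ E := by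
  obtain ⟨O, hO, hηO, hOE⟩ := FibDim4.exists_open_subset_of_isConstructible hE.isConstructible
    (fun U hU hne => ((genericPoint_spec S).mem_open_set_iff hU).2 (by simpa using hne)) h
  exact ⟨⟨O, hO⟩, hηO, hOE⟩

end Groth.Agent.Cons12
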