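import Groth.Agent.Lib.Cons12.Dims
import Groth.Agent.Lib.FibDepth5.ConstrLoc
import Groth.Agent.Lib.ModM1.Coh
import Groth.Agent.Lib.ModM1.Pull

/-!
# Associated points in the fibres: constructibility (EGA IV 9.8)
-/

set_option autoImplicit false
universe u
set_option linter.style.haveILetI false
set_option backward.isDefEq.respectTransparency false

open CategoryTheory AlgebraicGeometry TopologicalSpace Topology
open Groth.Agent.FibDim14 Groth.Agent.FibDepth5

namespace Groth.Agent.Cons12

variable {X S : Scheme.{u}} (f : X ⟶ S) [LocallyOfFinitePresentation f] (F : X.Modules)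

/-- Rectified depth at most `n`. -/
def depthSet (n : ℕ) : Set X := {x | CInt.fiberDepth f F x + (rd f x : ℕ∞) ≤ (n : ℕ∞)}

theorem isLocallyConstructible_depthSet (hF : CohB1.IsFP F) (n : ℕ) : IsLocallyConstructible (depthSet f F n) := by
  have h : depthSet f F n = ⋃ i : Fin (n + 1), {x | CInt.fiberDepth f F x + (rd f x : ℕ∞) = ((i : ℕ) : ℕ∞)} := by
    ext x
    simp only [depthSet, Set.mem_setOf_eq, Set.mem_iUnion]
    constructor
    · intro hx
      obtain ⟨m, hm⟩ := ENat.ne_top_iff_exists.1 (ne_top_of_le_ne_top (ENat.natCast_ne_top n) hx)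
      refine ⟨⟨m, Nat.lt_succ_of_le ?_⟩, hm.symm⟩
      rw [← hm] at hx
      exact_mod_cast hx
    · rintro ⟨i, hi⟩
      rw [hi]
      exact_mod_cast Nat.le_of_lt_succ i.2
  rw [h]
  exact IsLocallyConstructible.iUnion fun i => isLocallyConstructible_rectifiedDepth_eq f F hF _

theorem mem_depthSet_rd {n : ℕ} {x : X} (h : x ∈ depthSet f F n) : rd f x ≤ n := by
  have h2 : (rd f x : ℕ∞) ≤ (n : ℕ∞) := le_trans le_add_self h
  exact_mod_cast h2

/-- An associated point of residual degree `n`. -/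
theorem depthSet_iff {n : ℕ} {x : X} :
    (x ∈ depthSet f F n ∧ n ≤ rd f x) ↔ CInt.fiberDepth f F x = 0 ∧ rd f x = n := by
  constructor
  · rintro ⟨h, hn⟩
    have hr : rd f x = n := le_antisymm (mem_depthSet_rd f F h) hn
    refine ⟨?_, hr⟩
    change CInt.fiberDepth f F x + (rd f x : ℕ∞) ≤ (n : ℕ∞) at h
    rw [hr] at h
    have h' : CInt.fiberDepth f F x + (n : ℕ∞) ≤ 0 + (n : ℕ∞) := by rw [zero_add]; exact h
    exact nonpos_iff_eq_zero.1 ((ENat.add_le_add_iff_right (ENat.natCast_ne_top n)).1 h')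
  · rintro ⟨h0, rfl⟩
    refine ⟨?_, le_rfl⟩
    show CInt.fiberDepth f F x + (rd f x : ℕ∞) ≤ _
    rw [h0, zero_add]

theorem fiberι_base (s : S) (z : f.fiber s) : f (f.fiberι s z) = s :=
  (f.range_fiberι s).le ⟨z, rfl⟩

/-- The residual degrees of associated points of a fibre. -/
def assDims (s : S) : Set ℕ := {n | ∃ x, f x = s ∧ CInt.fiberDepth f F x = 0 ∧ rd f x = n}

theorem mem_assDims_iff {s : S} {n : ℕ} : n ∈ assDims f F s ↔ s ∈ f '' upSet f (depthSet f F n) n := by
  rw [mem_image_upSet]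
  constructor
  · rintro ⟨x, hs, hx⟩
    obtain ⟨h1, h2⟩ := (depthSet_iff f F).2 hx
    exact ⟨x, h1, hs, h2⟩
  · rintro ⟨x, h1, hs, h2⟩
    exact ⟨x, hs, (depthSet_iff f F).1 ⟨h1, h2⟩⟩

theorem image_dim_ass (hF : CohB1.IsFP F) (s : S) :
    (fun z : ↥(f.fiber s) => topologicalKrullDim ↥(closure ({z} : Set ↥(f.fiber s)))) ''
        AssSch.Ass ((Scheme.Modules.pullback (f.fiberι s)).obj F) =
      (fun n : ℕ => (n : WithBot ℕ∞)) '' assDims f F s := by
  ext d
  constructor
  · rintro ⟨z, hz, rfl⟩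
    exact ⟨_, ⟨f.fiberι s z, fiberι_base f s z, (mem_ass_iff f F hF s z).1 hz, rfl⟩,
      (topologicalKrullDim_closure_eq_rd f s z).symm⟩
  · rintro ⟨n, ⟨x, hs, h0, rfl⟩, rfl⟩
    obtain ⟨z, rfl⟩ : x ∈ Set.range (f.fiberι s) := (f.range_fiberι s).ge hs
    exact ⟨z, (mem_ass_iff f F hF s z).2 h0, topologicalKrullDim_closure_eq_rd f s z⟩

theorem isLocallyConstructible_assDims_eq [QuasiCompact f] (hF : CohB1.IsFP F) (Φ : Set (WithBot ℕ∞)) :
    IsLocallyConstructible {s : S | (fun n : ℕ => (n : WithBot ℕ∞)) '' assDims f F s = Φ} :=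
  isLocallyConstructible_level_cast (fun n => {s | n ∈ assDims f F s})
    (fun n => (congrArg IsLocallyConstructible (Set.ext fun _ => (mem_assDims_iff f F).symm)).mp
      (f.isLocallyConstructible_image (isLocallyConstructible_upSet f (isLocallyConstructible_depthSet f F hF n) n)))
    (fun U hUo hU => by
      obtain ⟨K, hK⟩ := exists_rd_bound f hUo hU
      exact ⟨K, fun s hs n ⟨x, he, _, hn⟩ => hn ▸ hK x (he.symm ▸ hs)⟩) Φ

/-- The points over `s` which are associated of degree `n` below an associated point of degree `m`. -/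
def embSet (n m : ℕ) : Set X := upSet f (depthSet f F n ∩ upSet f (depthSet f F m) m) n

theorem noEmbedded_iff (hF : CohB1.IsFP F) (s : S) :
    AssSch.NoEmbedded ((Scheme.Modules.pullback (f.fiberι s)).obj F) ↔
      ∀ n m, n < m → s ∉ f '' embSet f F n m := by
  simp only [embSet, mem_image_upSet]
  constructor
  · rintro h n m hnm ⟨x, ⟨hxn, x', hsp, he, hx'm, hm'⟩, hs, hn⟩
    obtain ⟨h0, hrn⟩ := (depthSet_iff f F).1 ⟨hxn, hn⟩
    obtain ⟨h0', hrm⟩ := (depthSet_iff f F).1 ⟨hx'm, hm'⟩
    obtain ⟨z, rfl⟩ : x ∈ Set.range (f.fiberι s) := (f.range_fiberι s).ge hs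
    obtain ⟨z', rfl⟩ : x' ∈ Set.range (f.fiberι s) := (f.range_fiberι s).ge (he.trans hs)
    have := h z ((mem_ass_iff f F hF s z).2 h0) z' ((mem_ass_iff f F hF s z').2 h0')
      ((f.fiberι s).isEmbedding.isInducing.specializes_iff.1 hsp)
    subst this
    omega
  · intro h z hz z' hz' hsp
    by_contra hne
    have hsp' := hsp.map (f.fiberι s).continuous
    have he : f (f.fiberι s z') = f (f.fiberι s z) := (fiberι_base f s z').trans (fiberι_base f s z).symm
    have hlt := rd_lt_of_specializes f hsp'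
      (fun e => hne ((f.fiberι s).isEmbedding.injective e).symm) he
    obtain ⟨a1, a2⟩ := (depthSet_iff f F).2 ⟨(mem_ass_iff f F hF s z).1 hz, rfl⟩
    obtain ⟨b1, b2⟩ := (depthSet_iff f F).2 ⟨(mem_ass_iff f F hF s z').1 hz', rfl⟩
    exact h _ _ hlt ⟨_, ⟨a1, _, hsp', he, b1, b2⟩, fiberι_base f s z, a2⟩

theorem isLocallyConstructible_noEmbedded [QuasiCompact f] (hF : CohB1.IsFP F) :
    IsLocallyConstructible {s : S | AssSch.NoEmbedded ((Scheme.Modules.pullback (f.fiberι s)).obj F)} := by
  intro s₀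
  obtain ⟨U, hU, hs, -⟩ := exists_isAffineOpen_mem_and_subset (X := S) (x := s₀) (U := ⊤) trivial
  obtain ⟨K, hK⟩ := exists_rd_bound f U.2 hU.isCompact
  refine ⟨U, U.2.mem_nhds hs, U.2, ?_⟩
  haveI : IsAffine U.toScheme := hU
  haveI : CompactSpace (U : Set S) := inferInstanceAs (CompactSpace U.toScheme)
  haveI : QuasiSeparatedSpace (U : Set S) := inferInstanceAs (QuasiSeparatedSpace U.toScheme)
  haveI : PrespectralSpace (U : Set S) := inferInstanceAs (PrespectralSpace U.toScheme)
  classical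
  have h : IsLocallyConstructible (⋂ p : Fin (K + 1) × Fin (K + 1),
      if (p.1 : ℕ) < p.2 then (f '' embSet f F p.1 p.2)ᶜ else Set.univ) := IsLocallyConstructible.iInter fun p => by
    split_ifs
    · exact AnPtsTop.isLocallyConstructible_compl (f.isLocallyConstructible_image (isLocallyConstructible_upSet f
        ((isLocallyConstructible_depthSet f F hF _).inter
          (isLocallyConstructible_upSet f (isLocallyConstructible_depthSet f F hF _) _)) _))
    · exact IsLocallyConstructible.univ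
  refine (congrArg IsConstructible (Set.ext fun u => ?_)).mp
    ((h.preimage_of_isOpenEmbedding U.2.isOpenEmbedding_subtypeVal).isConstructible)
  rw [Set.mem_preimage, Set.mem_preimage, Set.mem_iInter, Set.mem_setOf_eq, noEmbedded_iff f F hF]
  constructor
  · intro hu n m hnm hmem
    have hmem' := hmem
    simp only [embSet, mem_image_upSet] at hmem'
    obtain ⟨x, ⟨hxn, x', hsp, he, hx'm, hm'⟩, hs', hn⟩ := hmem'
    have hm : m ≤ K := hm'.trans (hK x' (by rw [he, hs']; exact u.2))
    have hh := hu (⟨n, by omega⟩, ⟨m, by omega⟩)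
    rw [if_pos hnm] at hh
    exact hh hmem
  · intro hu p
    split_ifs with hp
    · exact hu _ _ hp
    · trivial

/-- The support of the fibres. -/
def suppSet : Set X := {x | CInt.fiberDepth f F x ≠ ⊤}

theorem isLocallyConstructible_suppSet (hF : CohB1.IsFP F) : IsLocallyConstructible (suppSet f F) := by
  have h : suppSet f F = {x | CInt.fiberDepth f F x + (rd f x : ℕ∞) = ⊤}ᶜ := by
    ext x
    simp [suppSet]
  rw [h]
  exact AnPtsTop.isLocallyConstructible_compl (isLocallyConstructible_rectifiedDepth_eq f F hF ⊤)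

theorem support_pullback_fiberι (hF : CohB1.IsFP F) (s : S) :
    CohB1.support ((Scheme.Modules.pullback (f.fiberι s)).obj F) = f.fiberι s ⁻¹' suppSet f F := by
  ext z
  refine fib_pt_rec f (P := fun s z => z ∈ CohB1.support ((Scheme.Modules.pullback (f.fiberι s)).obj F))
    (Q := fun x => CInt.fiberDepth f F x ≠ ⊤) (fun x => ?_) s z
  let G := (Scheme.Modules.pullback (f.fiberι (f x))).obj F
  have hG : CohB1.IsFP G := M1.isFP_pullback (f.fiberι (f x)) hF
  let R : Type u := (f.fiber (f x)).presheaf.stalk (f.asFiber x)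
  let M : Type u := G.presheaf.stalk (f.asFiber x)
  haveI : IsLocallyNoetherian (f.fiber (f x)) := LocallyOfFiniteType.isLocallyNoetherian (toPt f (f x))
  haveI : Module.Finite R M := M1.finite_stalk (M1.isFP_isQCoh hG) (M1.isFP_isFT hG) (f.asFiber x)
  show ¬ Subsingleton M ↔ LocCoh.depth R M ≠ ⊤
  constructor
  · intro h
    haveI : Nontrivial M := not_subsingleton_iff_nontrivial.1 h
    obtain ⟨d, hd⟩ := DepthLib.exists_depth_eq_natCast (R := R) (M := M)
    rw [hd]
    exact ENat.natCast_ne_top d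
  · intro h hs
    exact h (DepthLib.idealDepth_of_smul_top_eq_top (Subsingleton.elim _ _))

theorem image_dim_support [QuasiCompact f] (hF : CohB1.IsFP F) (s : S) :
    (fun Z : Set ↥(CohB1.support ((Scheme.Modules.pullback (f.fiberι s)).obj F)) => topologicalKrullDim ↥Z) ''
        irreducibleComponents ↥(CohB1.support ((Scheme.Modules.pullback (f.fiberι s)).obj F)) =
      (fun n : ℕ => (n : WithBot ℕ∞)) '' maxDims f (suppSet f F) s := by
  have hcl : IsClosed (CohB1.support ((Scheme.Modules.pullback (f.fiberι s)).obj F)) :=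
    M1.isClosed_support (M1.isFP_isFT (M1.isFP_pullback (f.fiberι s) hF))
  rw [support_pullback_fiberι f F hF] at hcl ⊢
  exact image_dim_components_fiber f _ s hcl.isLocallyClosed

end Groth.Agent.Cons12
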