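import Groth.Agent.Lib.Cons12.AssDims
import Groth.Agent.Lib.AssPts11.Basic
import Groth.Agent.Lib.ZConn5.ProperAt

/-!
# Associated points of the fibres near the generic fibre (EGA IV 9.8.3)
-/

set_option autoImplicit false
universe u
set_option linter.style.haveILetI false
set_option backward.isDefEq.respectTransparency false

open CategoryTheory AlgebraicGeometry TopologicalSpace Topology
open Groth.Agent.FibDim14 Groth.Agent.FibDepth5

namespace Groth.Agent.Cons12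

variable {X S : Scheme.{u}}

/-- A set constructible in `S` missing the generic point misses a neighbourhood of it. -/
theorem eventually_notMem [IsIntegral S] [AlgebraicGeometry.IsNoetherian S] {ι : Type*} [Finite ι]
    (E : ι → Set S) (hE : ∀ i, IsLocallyConstructible (E i)) (h : ∀ i, genericPoint S ∉ E i) :
    ∃ U : S.Opens, genericPoint S ∈ U ∧ ∀ s ∈ U, ∀ i, s ∉ E i := by
  obtain ⟨U, hU, hsub⟩ := exists_nhd_generic
    (IsLocallyConstructible.iInter fun i => AnPtsTop.isLocallyConstructible_compl (hE i))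
    (Set.mem_iInter.2 h)
  exact ⟨U, hU, fun s hs i => Set.mem_iInter.1 (hsub hs) i⟩

theorem exists_nhd_ass_spread [IsIntegral S] [AlgebraicGeometry.IsNoetherian S]
    (f : X ⟶ S) [LocallyOfFiniteType f] [QuasiCompact f] (F : X.Modules) [Coh.IsQCoh F] (hF : CohB1.IsFP F)
    (A : Set X) (hA : ∀ a, a ∈ A ↔ f a = genericPoint S ∧ CInt.fiberDepth f F a = 0) (hfin : A.Finite) :
    ∃ U : S.Opens, genericPoint S ∈ U ∧ ∀ s ∈ U,
      (∀ a ∈ A, ∀ w, f w = s → w ∈ closure {a} →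
        rd f w ≤ rd f a ∧ ∃ w', w' ⤳ w ∧ f w' = s ∧ w' ∈ closure {a} ∧ rd f w' = rd f a) ∧
      (∀ a ∈ A, ∀ w, f w = s → w ∈ closure {a} → rd f w = rd f a → CInt.fiberDepth f F w = 0) ∧
      (∀ w, f w = s → CInt.fiberDepth f F w = 0 → ∃ a ∈ A, w ∈ closure {a} ∧ rd f a = rd f w) ∧
      (∀ a ∈ A, ∀ b ∈ A, ¬ b ⤳ a → ∀ w, f w = s → w ∈ closure {a} → w ∈ closure {b} → rd f w ≠ rd f a) := by
  classical
  haveI : IsLocallyNoetherian X := LocallyOfFiniteType.isLocallyNoetherian f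
  haveI : LocallyOfFinitePresentation f := inferInstance
  haveI : Finite A := hfin.to_subtype
  set η := genericPoint S
  obtain ⟨V, hV, hηV, -⟩ := exists_isAffineOpen_mem_and_subset (X := S) (x := η) (U := ⊤) trivial
  obtain ⟨K, hK⟩ := exists_rd_bound f V.2 hV.isCompact
  have hC : ∀ a : X, IsLocallyConstructible (closure ({a} : Set X)) := fun a =>
    ZConn5.isLocallyConstructible_of_isClosed isClosed_closure
  have hT := isLocallyConstructible_depthSet f F hF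
  have hc : ∀ {E : Set X}, IsLocallyConstructible E → IsLocallyConstructible Eᶜ :=
    fun h => AnPtsTop.isLocallyConstructible_compl h
  have hf : ∀ {E : Set X}, IsLocallyConstructible E → IsLocallyConstructible (f '' E) :=
    fun h => f.isLocallyConstructible_image h
  have hu : ∀ {E : Set X}, IsLocallyConstructible E → ∀ n, IsLocallyConstructible (upSet f E n) :=
    fun h n => isLocallyConstructible_upSet f h n
  have hgen : ∀ a ∈ A, ∀ w, f w = η → w ∈ closure {a} → rd f w ≤ rd f a ∧ (rd f a ≤ rd f w → w = a) := by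
    intro a ha w hw hwa
    have hsp : a ⤳ w := specializes_iff_mem_closure.2 hwa
    have he : f a = f w := ((hA a).1 ha).1.trans hw.symm
    rcases eq_or_ne a w with rfl | hne
    · exact ⟨le_rfl, fun _ => rfl⟩
    · have := rd_lt_of_specializes f hsp hne he
      exact ⟨this.le, fun h => absurd this (not_lt.2 h)⟩
  obtain ⟨U₁, hη₁, h₁⟩ := eventually_notMem (fun a : A => f '' upSet f (closure ({a.1} : Set X)) (rd f a.1 + 1))
    (fun a => hf (hu (hC _) _)) fun a h => by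
      obtain ⟨w, hw, he, hn⟩ := (mem_image_upSet f).1 h
      have := (hgen a.1 a.2 w he hw).1
      omega
  obtain ⟨U₂, hη₂, h₂⟩ := eventually_notMem
    (fun a : A => f '' (closure ({a.1} : Set X) \ upSet f (closure ({a.1} : Set X)) (rd f a.1)))
    (fun a => hf ((hC _).inter (hc (hu (hC _) _)))) fun a => by
      rintro ⟨w, ⟨hw, hnot⟩, he⟩
      exact hnot ⟨a.1, specializes_iff_mem_closure.2 hw, ((hA a.1).1 a.2).1.trans he.symm, subset_closure rfl, le_rfl⟩
  obtain ⟨U₃, hη₃, h₃⟩ := eventually_notMem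
    (fun a : A => f '' upSet f (closure ({a.1} : Set X) \ depthSet f F (rd f a.1)) (rd f a.1))
    (fun a => hf (hu ((hC _).inter (hc (hT _))) _)) fun a h => by
      obtain ⟨w, ⟨hw, hnot⟩, he, hn⟩ := (mem_image_upSet f).1 h
      obtain rfl := (hgen a.1 a.2 w he hw).2 hn
      exact hnot ((depthSet_iff f F).2 ⟨((hA _).1 a.2).2, rfl⟩).1
  obtain ⟨U₄, hη₄, h₄⟩ := eventually_notMem
    (fun n : Fin (K + 1) => f '' upSet f
      (depthSet f F n ∩ ⋂ a : A, {w | rd f a.1 = n → w ∈ (closure ({a.1} : Set X))ᶜ}) n)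
    (fun n => hf (hu ((hT _).inter (IsLocallyConstructible.iInter fun a => by
      by_cases h : rd f a.1 = n
      · exact (congrArg IsLocallyConstructible (Set.ext fun w => by simp [h])).mp (hc (hC a.1))
      · exact (congrArg IsLocallyConstructible (Set.ext fun w => by simp [h])).mp IsLocallyConstructible.univ)) _)) fun n h => by
      obtain ⟨w, ⟨hw, hall⟩, he, hn⟩ := (mem_image_upSet f).1 h
      obtain ⟨h0, hr⟩ := (depthSet_iff f F).1 ⟨hw, hn⟩
      exact Set.mem_iInter.1 hall ⟨w, (hA w).2 ⟨he, h0⟩⟩ hr (subset_closure rfl)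
  obtain ⟨U₅, hη₅, h₅⟩ := eventually_notMem
    (fun p : A × A => f '' upSet f
      {w | w ∈ closure ({p.1.1} : Set X) ∩ closure ({p.2.1} : Set X) ∧ ¬ p.2.1 ⤳ p.1.1} (rd f p.1.1))
    (fun p => hf (hu (by
      by_cases h : p.2.1 ⤳ p.1.1
      · exact (congrArg IsLocallyConstructible (Set.ext fun w => by simp [h])).mp IsLocallyConstructible.empty
      · exact (congrArg IsLocallyConstructible (Set.ext fun w => by simp [h])).mp ((hC p.1.1).inter (hC p.2.1))) _))
    fun p h => by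
      obtain ⟨w, ⟨⟨hw1, hw2⟩, hnot⟩, he, hn⟩ := (mem_image_upSet f).1 h
      obtain rfl := (hgen p.1.1 p.1.2 w he hw1).2 hn
      exact hnot (specializes_iff_mem_closure.2 hw2)
  refine ⟨V ⊓ U₁ ⊓ U₂ ⊓ U₃ ⊓ U₄ ⊓ U₅, ⟨⟨⟨⟨⟨hηV, hη₁⟩, hη₂⟩, hη₃⟩, hη₄⟩, hη₅⟩, ?_⟩
  rintro s ⟨⟨⟨⟨⟨hsV, hs₁⟩, hs₂⟩, hs₃⟩, hs₄⟩, hs₅⟩
  have hle : ∀ a : A, ∀ w, f w = s → w ∈ closure {a.1} → rd f w ≤ rd f a.1 := fun a w hw hwa =>
    Nat.le_of_not_lt fun hlt => h₁ s hs₁ a ((mem_image_upSet f).2 ⟨w, hwa, hw, hlt⟩)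
  refine ⟨fun a ha w hw hwa => ⟨hle ⟨a, ha⟩ w hw hwa, ?_⟩, ?_, ?_, ?_⟩
  · by_contra hno
    refine h₂ s hs₂ ⟨a, ha⟩ ⟨w, ⟨hwa, fun ⟨w', h1, h2, h3, h4⟩ => hno ?_⟩, hw⟩
    exact ⟨w', h1, h2.trans hw, h3, le_antisymm (hle ⟨a, ha⟩ w' (h2.trans hw) h3) h4⟩
  · intro a ha w hw hwa hr
    by_contra hne
    refine h₃ s hs₃ ⟨a, ha⟩ ((mem_image_upSet f).2 ⟨w, ⟨hwa, fun hd => ?_⟩, hw, hr.ge⟩)
    exact hne ((depthSet_iff f F).1 ⟨hd, hr.ge⟩).1
  · intro w hw h0
    by_contra hno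
    have hwK : rd f w ≤ K := hK w (hw ▸ hsV)
    refine h₄ s hs₄ ⟨rd f w, Nat.lt_succ_of_le hwK⟩ ((mem_image_upSet f).2
      ⟨w, ⟨((depthSet_iff f F).2 ⟨h0, rfl⟩).1, Set.mem_iInter.2 fun a hr hwa => hno ⟨a.1, a.2, hwa, hr⟩⟩, hw, le_rfl⟩)
  · intro a ha b hb hnot w hw hwa hwb hr
    exact h₅ s hs₅ (⟨a, ha⟩, ⟨b, hb⟩) ((mem_image_upSet f).2 ⟨w, ⟨⟨hwa, hwb⟩, hnot⟩, hw, hr.ge⟩)

/-- The maximal points of a closure in the fibre. -/
def maxIn (f : X ⟶ S) (s : S) (a : X) : Set ↥(f.fiber s) :=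
  {z | z ∈ ((f.fiberι s).base ⁻¹' closure {a}) ∧ ∀ z' ∈ ((f.fiberι s).base ⁻¹' closure {a}), z' ⤳ z → z' = z}

theorem ass_spread_fibre [IsIntegral S] [AlgebraicGeometry.IsNoetherian S]
    (f : X ⟶ S) [LocallyOfFiniteType f] [QuasiCompact f] (F : X.Modules) [Coh.IsQCoh F] (hF : CohB1.IsFP F) :
    ∃ U : S.Opens, genericPoint S ∈ U ∧ ∀ s ∈ U,
      (AssSch.Ass ((Scheme.Modules.pullback (f.fiberι s)).obj F) =
          ⋃ x ∈ AssSch.Ass ((Scheme.Modules.pullback (f.fiberι (genericPoint S))).obj F),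
            maxIn f s ((f.fiberι (genericPoint S)).base x)) ∧
      (∀ x ∈ AssSch.Ass ((Scheme.Modules.pullback (f.fiberι (genericPoint S))).obj F),
        ∀ x' ∈ AssSch.Ass ((Scheme.Modules.pullback (f.fiberι (genericPoint S))).obj F), x ≠ x' →
          Disjoint (maxIn f s ((f.fiberι (genericPoint S)).base x)) (maxIn f s ((f.fiberι (genericPoint S)).base x'))) ∧
      (∀ x ∈ AssSch.Ass ((Scheme.Modules.pullback (f.fiberι (genericPoint S))).obj F),
        ∀ z ∈ maxIn f s ((f.fiberι (genericPoint S)).base x),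
          ((∀ y ∈ AssSch.Ass ((Scheme.Modules.pullback (f.fiberι s)).obj F), y ⤳ z → y = z) ↔
            (∀ y ∈ AssSch.Ass ((Scheme.Modules.pullback (f.fiberι (genericPoint S))).obj F), y ⤳ x → y = x))) := by
  haveI : LocallyOfFinitePresentation f := by
    haveI : IsLocallyNoetherian S := inferInstance
    infer_instance
  let η := genericPoint S
  let ιη := f.fiberι η
  let Aη := AssSch.Ass ((Scheme.Modules.pullback ιη).obj F)
  have hA : ∀ a, a ∈ ιη '' Aη ↔ f a = η ∧ CInt.fiberDepth f F a = 0 := by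
    intro a
    constructor
    · rintro ⟨z, hz, rfl⟩
      exact ⟨fiberι_base f η z, (mem_ass_iff f F hF η z).1 hz⟩
    · rintro ⟨he, h0⟩
      obtain ⟨z, rfl⟩ : a ∈ Set.range (f.fiberι η) := (f.range_fiberι η).ge he
      exact ⟨z, (mem_ass_iff f F hF η z).2 h0, rfl⟩
  have hfin : (ιη '' Aη).Finite := by
    refine Set.Finite.image _ ?_
    haveI : QuasiCompact (toPt f η) := MorphismProperty.pullback_snd _ _ inferInstance
    haveI : IsLocallyNoetherian (f.fiber η) := LocallyOfFiniteType.isLocallyNoetherian (toPt f η)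
    haveI : CompactSpace (f.fiber η) := QuasiCompact.compactSpace_of_compactSpace (toPt f η)
    have hG := M1.isFP_pullback ιη hF
    refine (WA.finite_weakAss (M1.isFP_isQCoh hG) (M1.isFP_isFT hG) (U := ⊤) isCompact_univ).subset ?_
    exact fun x hx => ⟨trivial, AssPts11.mem_ass_iff.1 hx⟩
  obtain ⟨U, hηU, hU⟩ := exists_nhd_ass_spread f F hF _ hA hfin
  refine ⟨U, hηU, fun s hs => ?_⟩
  obtain ⟨h1, h2, h3, h4⟩ := hU s hs
  let ιs := f.fiberι s
  have hbase : ∀ z, f (ιs z) = s := fiberι_base f s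
  have hinj := ιs.isEmbedding.injective
  have hsp : ∀ a b, ιs a ⤳ ιs b ↔ a ⤳ b := fun a b => ιs.isEmbedding.isInducing.specializes_iff
  have hrange : ∀ w, f w = s → ∃ z, ιs z = w := fun w hw => (f.range_fiberι s).ge hw
  have hmax : ∀ x ∈ Aη, ∀ z, z ∈ maxIn f s (ιη x) ↔ ιs z ∈ closure {ιη x} ∧ rd f (ιs z) = rd f (ιη x) := by
    intro x hx z
    constructor
    · rintro ⟨hz, hm⟩
      refine ⟨hz, ?_⟩
      obtain ⟨w', hw1, hw2, hw3, hw4⟩ := (h1 _ ⟨x, hx, rfl⟩ _ (hbase z) hz).2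
      obtain ⟨z', rfl⟩ := hrange w' hw2
      rw [← hm z' hw3 ((hsp _ _).1 hw1)]
      exact hw4
    · rintro ⟨hz, hr⟩
      refine ⟨hz, fun z' hz' hs' => by_contra fun hne => ?_⟩
      have hlt := rd_lt_of_specializes f ((hsp _ _).2 hs') (fun e => hne (hinj e)) ((hbase z').trans (hbase z).symm)
      have := (h1 _ ⟨x, hx, rfl⟩ _ (hbase z') hz').1
      omega
  refine ⟨?_, ?_, ?_⟩
  · ext z
    simp only [Set.mem_iUnion, exists_prop]
    constructor
    · intro hz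
      obtain ⟨_, ⟨x, hx, rfl⟩, hcl, hr⟩ := h3 _ (hbase z) ((mem_ass_iff f F hF s z).1 hz)
      exact ⟨x, hx, (hmax x hx z).2 ⟨hcl, hr.symm⟩⟩
    · rintro ⟨x, hx, hz⟩
      obtain ⟨hcl, hr⟩ := (hmax x hx z).1 hz
      exact (mem_ass_iff f F hF s z).2 (h2 _ ⟨x, hx, rfl⟩ _ (hbase z) hcl hr)
  · intro x hx x' hx' hne
    refine Set.disjoint_left.2 fun z hz hz' => ?_
    obtain ⟨hcl, hr⟩ := (hmax x hx z).1 hz
    obtain ⟨hcl', hr'⟩ := (hmax x' hx' z).1 hz'
    refine h4 _ ⟨x, hx, rfl⟩ _ ⟨x', hx', rfl⟩ (fun hs' => ?_) _ (hbase z) hcl hcl' hr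
    have hlt := rd_lt_of_specializes f hs' (fun e => hne ((f.fiberι η).isEmbedding.injective e).symm)
      ((fiberι_base f η x').trans (fiberι_base f η x).symm)
    change rd f (ιη x) < rd f (ιη x') at hlt
    omega
  · intro x hx z hz
    obtain ⟨hcl, hr⟩ := (hmax x hx z).1 hz
    constructor
    · intro hmin y hy hyx
      by_contra hne
      have hsp' : ιη y ⤳ ιη x := hyx.map ιη.continuous
      have hlt := rd_lt_of_specializes f hsp' (fun e => hne (ιη.isEmbedding.injective e))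
        ((fiberι_base f η y).trans (fiberι_base f η x).symm)
      have hcl' : ιs z ∈ closure {ιη y} := specializes_iff_mem_closure.1
        (hsp'.trans (specializes_iff_mem_closure.2 hcl))
      obtain ⟨w', hw1, hw2, hw3, hw4⟩ := (h1 _ ⟨y, hy, rfl⟩ _ (hbase z) hcl').2
      obtain ⟨z', rfl⟩ := hrange w' hw2
      have := hmin z' ((mem_ass_iff f F hF s z').2 (h2 _ ⟨y, hy, rfl⟩ _ (hbase z') hw3 hw4)) ((hsp _ _).1 hw1)
      subst this
      omega
    · intro hmin z' hz' hsz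
      by_contra hne
      have hlt := rd_lt_of_specializes f ((hsp _ _).2 hsz) (fun e => hne (hinj e))
        ((hbase z').trans (hbase z).symm)
      obtain ⟨_, ⟨y, hy, rfl⟩, hcy, hry⟩ := h3 _ (hbase z') ((mem_ass_iff f F hF s z').1 hz')
      have hnot : ¬ ιη y ⤳ ιη x := fun h => by
        have := hmin y hy (ιη.isEmbedding.isInducing.specializes_iff.1 h)
        subst this
        omega
      exact h4 _ ⟨x, hx, rfl⟩ _ ⟨y, hy, rfl⟩ hnot _ (hbase z) hcl
        (specializes_iff_mem_closure.1 ((specializes_iff_mem_closure.2 hcy).trans ((hsp _ _).2 hsz))) hr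

end Groth.Agent.Cons12
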