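import Groth.Agent.S4801
import Groth.Agent.Lib.ConsH13.Topo
import Mathlib.RingTheory.TensorProduct.MvPolynomial
import Mathlib.RingTheory.Flat.FaithfullyFlat.Basic
import Mathlib.LinearAlgebra.TensorProduct.Pi
import Mathlib.RingTheory.Adjoin.FG

/-!
# Exactness on fibres of sequences given by polynomial matrices
-/

set_option autoImplicit false
universe u
set_option linter.style.haveILetI false
set_option maxHeartbeats 400000

open TensorProduct MvPolynomial

namespace Groth.Agent.Cons12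

variable {n a b c d : ℕ}

/-- Right exactness, with scalars restricted. -/
theorem exact_baseChange_mkQ {R P M N : Type u} [CommRing R] [CommRing P] [Algebra R P] [AddCommGroup M] [Module R M]
    [Module P M] [AddCommGroup N] [Module R N] [Module P N] [IsScalarTower R P M] [IsScalarTower R P N]
    (κ : Type u) [CommRing κ] [Algebra R κ] (f : M →ₗ[P] N) :
    Function.Exact ((f.restrictScalars R).baseChange κ) (((LinearMap.range f).mkQ.restrictScalars R).baseChange κ) := by
  have h1 : Function.Exact (f.restrictScalars R) ((LinearMap.range f).mkQ.restrictScalars R) := by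
    simp only [LinearMap.coe_restrictScalars]
    exact LinearMap.exact_map_mkQ_range f
  have h2 : Function.Surjective ((LinearMap.range f).mkQ.restrictScalars R) := by
    simp only [LinearMap.coe_restrictScalars]
    exact Submodule.mkQ_surjective _
  simp only [LinearMap.baseChange_eq_ltensor]
  exact lTensor_exact κ h1 h2

section Def

variable {R : Type u} [CommRing R]

/-- The target `P^c / range A`. -/
abbrev Hmod (A : Matrix (Fin c) (Fin d) (MvPolynomial (Fin n) R)) : Type u :=
  (Fin c → MvPolynomial (Fin n) R) ⧸ LinearMap.range A.mulVecLin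

/-- The second map. -/
noncomputable def psi (V : Matrix (Fin c) (Fin b) (MvPolynomial (Fin n) R))
    (A : Matrix (Fin c) (Fin d) (MvPolynomial (Fin n) R)) :
    (Fin b → MvPolynomial (Fin n) R) →ₗ[MvPolynomial (Fin n) R] Hmod A :=
  (LinearMap.range A.mulVecLin).mkQ ∘ₗ V.mulVecLin

/-- Exactness of the sequence after mapping coefficients. -/
def FibExact (Φ : Matrix (Fin b) (Fin a) (MvPolynomial (Fin n) R))
    (V : Matrix (Fin c) (Fin b) (MvPolynomial (Fin n) R)) (A : Matrix (Fin c) (Fin d) (MvPolynomial (Fin n) R))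
    {κ : Type u} [CommRing κ] (ρ : R →+* κ) : Prop :=
  Function.Exact (Φ.map (MvPolynomial.map ρ)).mulVecLin (psi (V.map (MvPolynomial.map ρ)) (A.map (MvPolynomial.map ρ)))

theorem map_map_matrix {S κ : Type u} [CommRing S] [CommRing κ] (σ : R →+* S) (ρ : S →+* κ) {l m : ℕ}
    (M : Matrix (Fin l) (Fin m) (MvPolynomial (Fin n) R)) :
    (M.map (MvPolynomial.map σ)).map (MvPolynomial.map ρ) = M.map (MvPolynomial.map (ρ.comp σ)) :=
  Matrix.ext fun i j => MvPolynomial.map_map σ ρ (M i j)

theorem fibExact_map (Φ : Matrix (Fin b) (Fin a) (MvPolynomial (Fin n) R))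
    (V : Matrix (Fin c) (Fin b) (MvPolynomial (Fin n) R)) (A : Matrix (Fin c) (Fin d) (MvPolynomial (Fin n) R))
    {S κ : Type u} [CommRing S] [CommRing κ] (σ : R →+* S) (ρ : S →+* κ) :
    FibExact (Φ.map (MvPolynomial.map σ)) (V.map (MvPolynomial.map σ)) (A.map (MvPolynomial.map σ)) ρ ↔
      FibExact Φ V A (ρ.comp σ) := by
  unfold FibExact
  rw [map_map_matrix σ ρ Φ, map_map_matrix σ ρ V, map_map_matrix σ ρ A]

variable (κ : Type u) [CommRing κ] [Algebra R κ]

/-- `κ ⊗ P^m = κ[X]^m`. -/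
noncomputable def coordEquiv (m : ℕ) :
    κ ⊗[R] (Fin m → MvPolynomial (Fin n) R) ≃ₗ[κ] (Fin m → MvPolynomial (Fin n) κ) :=
  (TensorProduct.piRight R κ κ fun _ => MvPolynomial (Fin n) R) ≪≫ₗ
    LinearEquiv.piCongrRight fun _ => (MvPolynomial.algebraTensorAlgEquiv R κ).toLinearEquiv

theorem coordEquiv_tmul (m : ℕ) (x : κ) (v : Fin m → MvPolynomial (Fin n) R) :
    coordEquiv κ m (x ⊗ₜ v) = x • fun i => MvPolynomial.map (algebraMap R κ) (v i) := by
  funext i
  simp [coordEquiv]

theorem coordEquiv_mulVec {m l : ℕ} (M : Matrix (Fin m) (Fin l) (MvPolynomial (Fin n) R))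
    (x : κ ⊗[R] (Fin l → MvPolynomial (Fin n) R)) :
    coordEquiv κ m ((M.mulVecLin.restrictScalars R).baseChange κ x) =
      (M.map (MvPolynomial.map (algebraMap R κ))).mulVecLin (coordEquiv κ l x) := by
  induction x using TensorProduct.induction_on with
  | zero => simp
  | add x y hx hy => simp only [map_add, hx, hy]
  | tmul t v =>
    rw [LinearMap.baseChange_tmul, LinearMap.restrictScalars_apply, coordEquiv_tmul, coordEquiv_tmul,
      Matrix.mulVecLin_apply, Matrix.mulVecLin_apply, Matrix.mulVec_smul]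
    congr 1
    funext i
    exact RingHom.map_mulVec (MvPolynomial.map (algebraMap R κ)) M v i

/-- Exactness of the tensored sequence is exactness with mapped coefficients. -/
theorem fibExact_iff (Φ : Matrix (Fin b) (Fin a) (MvPolynomial (Fin n) R))
    (V : Matrix (Fin c) (Fin b) (MvPolynomial (Fin n) R)) (A : Matrix (Fin c) (Fin d) (MvPolynomial (Fin n) R)) :
    Function.Exact ((Φ.mulVecLin.restrictScalars R).baseChange κ) (((psi V A).restrictScalars R).baseChange κ) ↔
      FibExact Φ V A (algebraMap R κ) := by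
  let eb := coordEquiv (R := R) (n := n) κ b
  let φ' := (Φ.map (MvPolynomial.map (algebraMap R κ))).mulVecLin
  let ψ' := psi (V.map (MvPolynomial.map (algebraMap R κ))) (A.map (MvPolynomial.map (algebraMap R κ)))
  have hq : Function.Exact ((A.mulVecLin.restrictScalars R).baseChange κ)
      (((LinearMap.range A.mulVecLin).mkQ.restrictScalars R).baseChange κ) :=
    exact_baseChange_mkQ κ A.mulVecLin
  have hψ : ∀ x, ((psi V A).restrictScalars R).baseChange κ x = 0 ↔ ψ' (eb x) = 0 := by
    intro x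
    rw [show ((psi V A).restrictScalars R).baseChange κ x =
        ((LinearMap.range A.mulVecLin).mkQ.restrictScalars R).baseChange κ
          ((V.mulVecLin.restrictScalars R).baseChange κ x) by
      rw [← LinearMap.comp_apply, ← LinearMap.baseChange_comp]; rfl]
    rw [hq _]
    show _ ↔ (LinearMap.range (A.map (MvPolynomial.map (algebraMap R κ))).mulVecLin).mkQ _ = 0
    rw [Submodule.mkQ_apply, Submodule.Quotient.mk_eq_zero, ← coordEquiv_mulVec]
    constructor
    · rintro ⟨z, hz⟩
      exact ⟨coordEquiv κ d z, by rw [← coordEquiv_mulVec, hz]⟩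
    · rintro ⟨z, hz⟩
      obtain ⟨z, rfl⟩ := (coordEquiv (R := R) κ d).surjective z
      exact ⟨z, (coordEquiv (R := R) κ c).injective (by rw [coordEquiv_mulVec, hz])⟩
  constructor
  · intro h y
    obtain ⟨x, rfl⟩ := eb.surjective y
    rw [← hψ, h x]
    constructor
    · rintro ⟨z, hz⟩
      exact ⟨coordEquiv κ a z, by rw [← coordEquiv_mulVec, hz]⟩
    · rintro ⟨z, hz⟩
      obtain ⟨z, rfl⟩ := (coordEquiv (R := R) κ a).surjective z
      exact ⟨z, eb.injective (by rw [coordEquiv_mulVec, hz])⟩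
  · intro h x
    rw [hψ, h (eb x)]
    constructor
    · rintro ⟨z, hz⟩
      obtain ⟨z, rfl⟩ := (coordEquiv (R := R) κ a).surjective z
      exact ⟨z, eb.injective (by rw [coordEquiv_mulVec, hz])⟩
    · rintro ⟨z, hz⟩
      exact ⟨coordEquiv κ a z, by rw [← coordEquiv_mulVec, hz]⟩

end Def

/-- Extension of fields does not change exactness. -/
theorem fibExact_field {R : Type u} [CommRing R] (Φ : Matrix (Fin b) (Fin a) (MvPolynomial (Fin n) R))
    (V : Matrix (Fin c) (Fin b) (MvPolynomial (Fin n) R)) (A : Matrix (Fin c) (Fin d) (MvPolynomial (Fin n) R))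
    {k K : Type u} [Field k] [Field K] (ρ : R →+* k) (j : k →+* K) :
    FibExact Φ V A (j.comp ρ) ↔ FibExact Φ V A ρ := by
  letI := j.toAlgebra
  have h1 := (fibExact_iff K (Φ.map (MvPolynomial.map ρ)) (V.map (MvPolynomial.map ρ)) (A.map (MvPolynomial.map ρ))).symm.trans
    (Module.FaithfullyFlat.lTensor_exact_iff_exact k K
      (l12 := ((Φ.map (MvPolynomial.map ρ)).mulVecLin.restrictScalars k))
      (l23 := ((psi (V.map (MvPolynomial.map ρ)) (A.map (MvPolynomial.map ρ))).restrictScalars k)))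
  exact (fibExact_map Φ V A ρ (algebraMap k K)).symm.trans h1

/-- The locus of exactness. -/
def exactLocus {R : Type u} [CommRing R] (Φ : Matrix (Fin b) (Fin a) (MvPolynomial (Fin n) R))
    (V : Matrix (Fin c) (Fin b) (MvPolynomial (Fin n) R)) (A : Matrix (Fin c) (Fin d) (MvPolynomial (Fin n) R)) :
    Set (PrimeSpectrum R) :=
  {p | FibExact Φ V A (algebraMap R p.asIdeal.ResidueField)}

theorem preimage_exactLocus {R S : Type u} [CommRing R] [CommRing S] (σ : R →+* S)
    (Φ : Matrix (Fin b) (Fin a) (MvPolynomial (Fin n) R))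
    (V : Matrix (Fin c) (Fin b) (MvPolynomial (Fin n) R)) (A : Matrix (Fin c) (Fin d) (MvPolynomial (Fin n) R)) :
    PrimeSpectrum.comap σ ⁻¹' exactLocus Φ V A =
      exactLocus (Φ.map (MvPolynomial.map σ)) (V.map (MvPolynomial.map σ)) (A.map (MvPolynomial.map σ)) := by
  ext q
  show FibExact Φ V A (algebraMap R (PrimeSpectrum.comap σ q).asIdeal.ResidueField) ↔
    FibExact _ _ _ (algebraMap S q.asIdeal.ResidueField)
  rw [fibExact_map, ← fibExact_field Φ V A (algebraMap R (PrimeSpectrum.comap σ q).asIdeal.ResidueField)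
    (Ideal.ResidueField.map (PrimeSpectrum.comap σ q).asIdeal q.asIdeal σ rfl)]
  refine Iff.of_eq (congrArg (fun ρ => FibExact Φ V A ρ) (RingHom.ext fun r => ?_))
  exact Ideal.ResidueField.map_algebraMap _ _ _ _ r

section Generic

variable {D : Type u} [CommRing D] [IsDomain D]

/-- An element surviving in the generic fibre survives in the nearby fibres. -/
theorem exists_ne_zero_fibre {M : Type u} [AddCommGroup M] [Module D M] [Module (MvPolynomial (Fin n) D) M]
    [IsScalarTower D (MvPolynomial (Fin n) D) M] [Module.FinitePresentation (MvPolynomial (Fin n) D) M] (m : M)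
    (hm : (1 : FractionRing D) ⊗ₜ[D] m ≠ 0) :
    ∃ f : D, f ≠ 0 ∧ ∀ (κ : Type u) [Field κ] [Algebra D κ], algebraMap D κ f ≠ 0 → (1 : κ) ⊗ₜ[D] m ≠ 0 := by
  obtain ⟨f, hf, hfree, -⟩ := FlatH4.exists_free_and_fg_relations (R := D) (S := MvPolynomial (Fin n) D) (M := M)
  let R' := Localization.Away f
  haveI : Module.Free R' (R' ⊗[D] M) := hfree R' (IsLocalization.Away.algebraMap_isUnit f)
  let ρK : R' →ₐ[D] FractionRing D := IsLocalization.liftAlgHom (M := Submonoid.powers f) (S := R')
    (f := Algebra.ofId D (FractionRing D)) (by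
      rintro ⟨_, k, rfl⟩
      rw [map_pow]
      exact (Ne.isUnit (by
        rw [Algebra.ofId_apply, Ne, IsFractionRing.to_map_eq_zero_iff]
        exact hf)).pow k)
  have hm' : (1 : R') ⊗ₜ[D] m ≠ 0 := fun h0 => hm (by
    simpa using congrArg (ρK.toLinearMap.rTensor M) h0)
  let B := Module.Free.chooseBasis R' (R' ⊗[D] M)
  obtain ⟨i, hi⟩ : ∃ i, B.repr ((1 : R') ⊗ₜ[D] m) i ≠ 0 := by
    by_contra hc
    push Not at hc
    exact hm' (B.repr.injective (by rw [map_zero]; exact Finsupp.ext hc))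
  obtain ⟨⟨c₀, s⟩, hs⟩ := IsLocalization.surj (Submonoid.powers f) (B.repr ((1 : R') ⊗ₜ[D] m) i)
  have hc₀ : c₀ ≠ 0 := by
    rintro rfl
    rw [map_zero] at hs
    exact hi ((IsUnit.mul_left_eq_zero (IsLocalization.map_units R' s)).1 hs)
  refine ⟨f * c₀, mul_ne_zero hf hc₀, fun κ _ _ hκ h0 => ?_⟩
  rw [map_mul, mul_ne_zero_iff] at hκ
  let ρ : R' →ₐ[D] κ := IsLocalization.liftAlgHom (M := Submonoid.powers f) (S := R') (f := Algebra.ofId D κ)
    (by rintro ⟨_, k, rfl⟩; rw [map_pow]; exact (Ne.isUnit hκ.1).pow k)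
  let lam : M →ₗ[D] κ := ρ.toLinearMap ∘ₗ ((B.coord i).restrictScalars D) ∘ₗ TensorProduct.mk D R' M 1
  have h1 := congrArg ((LinearMap.mul' D κ).comp (lam.lTensor κ)) h0
  simp only [LinearMap.comp_apply, LinearMap.lTensor_tmul, LinearMap.mul'_apply, one_mul, map_zero] at h1
  change ρ (B.repr ((1 : R') ⊗ₜ[D] m) i) = 0 at h1
  have h2 := congrArg ρ hs
  rw [map_mul, h1, zero_mul, AlgHom.commutes] at h2
  exact hκ.2 h2.symm

/-- Exactness is constant near the generic point. -/
theorem exists_forall_fibExact_iff (Φ : Matrix (Fin b) (Fin a) (MvPolynomial (Fin n) D))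
    (V : Matrix (Fin c) (Fin b) (MvPolynomial (Fin n) D)) (A : Matrix (Fin c) (Fin d) (MvPolynomial (Fin n) D)) :
    ∃ f : D, f ≠ 0 ∧ ∀ p : PrimeSpectrum D, f ∉ p.asIdeal →
      (FibExact Φ V A (algebraMap D p.asIdeal.ResidueField) ↔ FibExact Φ V A (algebraMap D (FractionRing D))) := by
  classical
  let K := FractionRing D
  haveI : Module.FinitePresentation (MvPolynomial (Fin n) D) (Hmod A) :=
    Module.finitePresentation_of_surjective _ (Submodule.mkQ_surjective _)
      (by rw [Submodule.ker_mkQ]; exact Submodule.FG.map _ Module.Finite.fg_top |> fun h => LinearMap.range_eq_map A.mulVecLin ▸ h)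
  have hne : ∀ (p : PrimeSpectrum D) (f : D), f ∉ p.asIdeal → algebraMap D p.asIdeal.ResidueField f ≠ 0 :=
    fun p f hf h => hf (Ideal.algebraMap_residueField_eq_zero.1 h)
  by_cases hK : FibExact Φ V A (algebraMap D K)
  · obtain ⟨f, hf, hgood⟩ := S4801.result (B := MvPolynomial (Fin n) D) Φ.mulVecLin (psi V A)
      ((fibExact_iff K Φ V A).2 hK)
    exact ⟨f, hf, fun p hp => iff_of_true ((fibExact_iff p.asIdeal.ResidueField Φ V A).1 (hgood p hp)) hK⟩
  suffices hbad : ∃ f : D, f ≠ 0 ∧ ∀ p : PrimeSpectrum D, f ∉ p.asIdeal →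
      ¬ Function.Exact ((Φ.mulVecLin.restrictScalars D).baseChange p.asIdeal.ResidueField)
        (((psi V A).restrictScalars D).baseChange p.asIdeal.ResidueField) by
    obtain ⟨f, hf, hgood⟩ := hbad
    exact ⟨f, hf, fun p hp => iff_of_false (fun h => hgood p hp ((fibExact_iff _ Φ V A).2 h)) hK⟩
  let φK := (Φ.mulVecLin.restrictScalars D).baseChange K
  let ψK := ((psi V A).restrictScalars D).baseChange K
  by_cases hcomp : ∀ v, (1 : K) ⊗ₜ[D] psi V A (Φ.mulVecLin v) = 0
  · have hnot : ¬ Function.Exact φK ψK := fun h => hK ((fibExact_iff K Φ V A).1 h)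
    have hzero : ∀ x, ψK (φK x) = 0 := by
      intro x
      induction x using TensorProduct.induction_on with
      | zero => simp
      | add x y hx hy => simp [map_add, hx, hy]
      | tmul t v =>
        rw [show φK (t ⊗ₜ v) = t ⊗ₜ[D] Φ.mulVecLin v from LinearMap.baseChange_tmul .., show ψK (t ⊗ₜ[D] Φ.mulVecLin v) =
          t ⊗ₜ[D] psi V A (Φ.mulVecLin v) from LinearMap.baseChange_tmul ..]
        have := congrArg (t • ·) (hcomp v)
        simpa [TensorProduct.smul_tmul'] using this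
    obtain ⟨y, hy, hy'⟩ : ∃ y, ψK y = 0 ∧ y ∉ Set.range φK := by
      by_contra hc
      push Not at hc
      exact hnot fun y => ⟨hc y, fun ⟨x, hx⟩ => hx ▸ hzero x⟩
    obtain ⟨⟨y₀, s⟩, hs⟩ := IsLocalizedModule.surj (nonZeroDivisors D)
      (TensorProduct.mk D K (Fin b → MvPolynomial (Fin n) D) 1) y
    have hs' : (1 : K) ⊗ₜ[D] y₀ = (s : D) • y := hs.symm
    have hψ : (1 : K) ⊗ₜ[D] psi V A y₀ = 0 := by
      have := congrArg ψK hs'
      rw [LinearMap.map_smul_of_tower, hy, smul_zero] at this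
      exact this
    have h1 : TensorProduct.mk D K (Hmod A) 1 (psi V A y₀) = TensorProduct.mk D K (Hmod A) 1 0 := by
      rw [map_zero]; exact hψ
    obtain ⟨t, ht⟩ := (IsLocalizedModule.eq_iff_exists (nonZeroDivisors D) (TensorProduct.mk D K (Hmod A) 1)).1 h1
    have ht' : (t : D) • psi V A y₀ = 0 := by simpa [Submonoid.smul_def] using ht
    let T := (Fin b → MvPolynomial (Fin n) D) ⧸ LinearMap.range Φ.mulVecLin
    haveI : Module.FinitePresentation (MvPolynomial (Fin n) D) T :=
      Module.finitePresentation_of_surjective _ (Submodule.mkQ_surjective _)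
        (by rw [Submodule.ker_mkQ]; exact LinearMap.range_eq_map Φ.mulVecLin ▸ Submodule.FG.map _ Module.Finite.fg_top)
    have hex : ∀ (κ : Type u) [Field κ] [Algebra D κ], Function.Exact ((Φ.mulVecLin.restrictScalars D).baseChange κ)
        (((LinearMap.range Φ.mulVecLin).mkQ.restrictScalars D).baseChange κ) := fun κ _ _ =>
      exact_baseChange_mkQ κ Φ.mulVecLin
    have hm : (1 : K) ⊗ₜ[D] (LinearMap.range Φ.mulVecLin).mkQ y₀ ≠ 0 := by
      intro h0
      obtain ⟨z, hz⟩ := (hex K ((1 : K) ⊗ₜ[D] y₀)).1 h0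
      refine hy' ⟨(algebraMap D K s)⁻¹ • z, ?_⟩
      rw [map_smul, show φK z = (s : D) • y from hz.trans hs', ← algebraMap_smul K (s : D) y, smul_smul,
        inv_mul_cancel₀ (by rw [Ne, IsFractionRing.to_map_eq_zero_iff]; exact nonZeroDivisors.coe_ne_zero s), one_smul]
    obtain ⟨f, hf, hgood⟩ := exists_ne_zero_fibre (n := n) (M := T) ((LinearMap.range Φ.mulVecLin).mkQ y₀) hm
    refine ⟨f * t, mul_ne_zero hf (nonZeroDivisors.coe_ne_zero t), fun p hp hexp => ?_⟩
    let κ := p.asIdeal.ResidueField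
    have hκ := hne p _ hp
    rw [map_mul, mul_ne_zero_iff] at hκ
    have hy0 : ((psi V A).restrictScalars D).baseChange κ ((1 : κ) ⊗ₜ[D] y₀) = 0 := by
      rw [LinearMap.baseChange_tmul, LinearMap.restrictScalars_apply,
        show (1 : κ) = (t : D) • (algebraMap D κ (t : D))⁻¹ by rw [Algebra.smul_def, mul_inv_cancel₀ hκ.2],
        TensorProduct.smul_tmul, ht', TensorProduct.tmul_zero]
    obtain ⟨z, hz⟩ := (hexp _).1 hy0
    refine hgood κ hκ.1 ?_
    have := (hex κ).apply_apply_eq_zero z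
    rw [hz] at this
    exact this
  · push Not at hcomp
    obtain ⟨v, hv⟩ := hcomp
    obtain ⟨f, hf, hgood⟩ := exists_ne_zero_fibre (n := n) (M := Hmod A) (psi V A (Φ.mulVecLin v)) hv
    refine ⟨f, hf, fun p hp hexp => hgood _ (hne p f hp) ?_⟩
    have := hexp.apply_apply_eq_zero ((1 : p.asIdeal.ResidueField) ⊗ₜ[D] v)
    rwa [LinearMap.baseChange_tmul, LinearMap.baseChange_tmul] at this

end Generic

/-- Over a noetherian ring the locus is constructible. -/
theorem isConstructible_exactLocus_noetherian {R : Type u} [CommRing R] [IsNoetherianRing R]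
    (Φ : Matrix (Fin b) (Fin a) (MvPolynomial (Fin n) R))
    (V : Matrix (Fin c) (Fin b) (MvPolynomial (Fin n) R)) (A : Matrix (Fin c) (Fin d) (MvPolynomial (Fin n) R)) :
    Topology.IsConstructible (exactLocus Φ V A) := by
  refine ConsH13.isConstructible_of_generic _ fun Z hZ hZc => ?_
  let P := PrimeSpectrum.vanishingIdeal Z
  haveI hP : P.IsPrime := PrimeSpectrum.isIrreducible_iff_vanishingIdeal_isPrime.1 hZ
  have hPZ : PrimeSpectrum.zeroLocus (P : Set R) = Z := by
    rw [PrimeSpectrum.zeroLocus_vanishingIdeal_eq_closure, hZc.closure_eq]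
  let σ := Ideal.Quotient.mk P
  let Φ' := Φ.map (MvPolynomial.map σ)
  let V' := V.map (MvPolynomial.map σ)
  let A' := A.map (MvPolynomial.map σ)
  obtain ⟨f, hf, hgood⟩ := exists_forall_fibExact_iff Φ' V' A'
  obtain ⟨f₀, rfl⟩ := Ideal.Quotient.mk_surjective f
  refine ⟨PrimeSpectrum.basicOpen f₀, (PrimeSpectrum.basicOpen f₀).2, ⟨⟨P, hP⟩, hPZ.le ?_, ?_⟩, ?_⟩
  · exact fun x hx => hx
  · exact fun h => hf (Ideal.Quotient.eq_zero_iff_mem.2 h)
  have key : ∀ q ∈ Z ∩ (PrimeSpectrum.basicOpen f₀ : Set (PrimeSpectrum R)),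
      (q ∈ exactLocus Φ V A ↔ FibExact Φ' V' A' (algebraMap (R ⧸ P) (FractionRing (R ⧸ P)))) := by
    rintro q ⟨hqZ, hqf⟩
    have hPq : P ≤ q.asIdeal := hPZ.ge hqZ
    haveI hq' : (q.asIdeal.map σ).IsPrime :=
      Ideal.map_isPrime_of_surjective Ideal.Quotient.mk_surjective (by rw [Ideal.mk_ker]; exact hPq)
    let q' : PrimeSpectrum (R ⧸ P) := ⟨q.asIdeal.map σ, hq'⟩
    have hqq : PrimeSpectrum.comap σ q' = q := PrimeSpectrum.ext (by
      show (q.asIdeal.map σ).comap σ = q.asIdeal
      rw [Ideal.comap_map_of_surjective σ Ideal.Quotient.mk_surjective, ← RingHom.ker_eq_comap_bot, Ideal.mk_ker,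
        sup_eq_left.2 hPq])
    have h1 : σ f₀ ∉ q'.asIdeal := fun h => hqf ((congrArg PrimeSpectrum.asIdeal hqq).le h)
    have h2 : q' ∈ PrimeSpectrum.comap σ ⁻¹' exactLocus Φ V A ↔ FibExact Φ' V' A' (algebraMap (R ⧸ P) (FractionRing (R ⧸ P))) := by
      rw [preimage_exactLocus]
      exact hgood q' h1
    rwa [Set.mem_preimage, hqq] at h2
  by_cases hK : FibExact Φ' V' A' (algebraMap (R ⧸ P) (FractionRing (R ⧸ P)))
  · exact Or.inl fun q hq => (key q hq).2 hK
  · exact Or.inr fun q hq h => hK ((key q hq).1 h)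

theorem mem_range_map_of_coeff {R S : Type u} [CommRing R] [CommRing S] (σ : R →+* S) (p : MvPolynomial (Fin n) S)
    (h : ∀ m ∈ p.support, p.coeff m ∈ σ.range) : p ∈ (MvPolynomial.map σ : MvPolynomial (Fin n) R →+* _).range := by
  rw [p.as_sum]
  refine Subring.sum_mem _ fun m hm => ?_
  obtain ⟨r, hr⟩ := h m hm
  exact ⟨monomial m r, by rw [MvPolynomial.map_monomial, hr]⟩

theorem exists_map_eq {R S : Type u} [CommRing R] [CommRing S] (σ : R →+* S) {l m : ℕ}
    (M : Matrix (Fin l) (Fin m) (MvPolynomial (Fin n) S))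
    (h : ∀ i j, ∀ e ∈ (M i j).support, (M i j).coeff e ∈ σ.range) :
    ∃ M' : Matrix (Fin l) (Fin m) (MvPolynomial (Fin n) R), M'.map (MvPolynomial.map σ) = M := by
  choose g hg using fun i j => mem_range_map_of_coeff σ (M i j) (h i j)
  exact ⟨g, Matrix.ext hg⟩

/-- The locus of exactness of a sequence given by matrices is constructible. -/
theorem isConstructible_exactLocus {R : Type u} [CommRing R]
    (Φ : Matrix (Fin b) (Fin a) (MvPolynomial (Fin n) R))
    (V : Matrix (Fin c) (Fin b) (MvPolynomial (Fin n) R)) (A : Matrix (Fin c) (Fin d) (MvPolynomial (Fin n) R)) :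
    Topology.IsConstructible (exactLocus Φ V A) := by
  classical
  let s : Finset R := (Finset.univ.biUnion fun ij : Fin b × Fin a => (Φ ij.1 ij.2).support.image (Φ ij.1 ij.2).coeff) ∪
    (Finset.univ.biUnion fun ij : Fin c × Fin b => (V ij.1 ij.2).support.image (V ij.1 ij.2).coeff) ∪
    (Finset.univ.biUnion fun ij : Fin c × Fin d => (A ij.1 ij.2).support.image (A ij.1 ij.2).coeff)
  let R₀ := Algebra.adjoin ℤ (s : Set R)
  haveI : IsNoetherianRing R₀ := isNoetherianRing_of_fg (Subalgebra.fg_adjoin_finset s)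
  let σ : R₀ →+* R := R₀.val.toRingHom
  have hσ : ∀ x ∈ s, x ∈ σ.range := fun x hx => ⟨⟨x, Algebra.subset_adjoin hx⟩, rfl⟩
  obtain ⟨Φ₀, hΦ⟩ := exists_map_eq σ Φ fun i j e he => hσ _ (Finset.mem_union_left _ (Finset.mem_union_left _
    (Finset.mem_biUnion.2 ⟨(i, j), Finset.mem_univ _, Finset.mem_image_of_mem _ he⟩)))
  obtain ⟨V₀, hV⟩ := exists_map_eq σ V fun i j e he => hσ _ (Finset.mem_union_left _ (Finset.mem_union_right _
    (Finset.mem_biUnion.2 ⟨(i, j), Finset.mem_univ _, Finset.mem_image_of_mem _ he⟩)))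
  obtain ⟨A₀, hA⟩ := exists_map_eq σ A fun i j e he => hσ _ (Finset.mem_union_right _
    (Finset.mem_biUnion.2 ⟨(i, j), Finset.mem_univ _, Finset.mem_image_of_mem _ he⟩))
  rw [← hΦ, ← hV, ← hA, ← preimage_exactLocus]
  obtain ⟨D₀, hD⟩ := PrimeSpectrum.exists_constructibleSetData_iff.2 (isConstructible_exactLocus_noetherian Φ₀ V₀ A₀)
  rw [← hD, ← PrimeSpectrum.ConstructibleSetData.toSet_map]
  exact PrimeSpectrum.ConstructibleSetData.isConstructible_toSet _

end Groth.Agent.Cons12
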