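import Groth.Agent.Lib.Cons12.AssDims
import Groth.Agent.Lib.AssPts11.Basic

/-!
# Torsion modules on locally integral schemes and fibres
-/

set_option autoImplicit false
universe u
set_option linter.style.haveILetI false
set_option backward.isDefEq.respectTransparency false

open CategoryTheory AlgebraicGeometry TopologicalSpace Topology IsLocalRing
open Groth.Agent.FibDim14 Groth.Agent.FibDepth5

namespace Groth.Agent.Cons12

section Abs

variable {X : Scheme.{u}} {F : X.Modules}

theorem isField_stalk_of_max (x : X) [IsDomain (X.presheaf.stalk x)] (h : ∀ z, z ⤳ x → z = x) :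
    IsField (X.presheaf.stalk x) := by
  let R := X.presheaf.stalk x
  rw [IsLocalRing.isField_iff_maximalIdeal_eq]
  let q₀ : PrimeSpectrum R := ⟨⊥, Ideal.isPrime_bot⟩
  have h1 : X.fromSpecStalk x q₀ = x := h _ (Scheme.range_fromSpecStalk.le ⟨q₀, rfl⟩)
  have h2 : X.fromSpecStalk x (IsLocalRing.closedPoint R) = x := Scheme.fromSpecStalk_closedPoint
  exact (congrArg PrimeSpectrum.asIdeal ((X.fromSpecStalk x).isEmbedding.injective (h1.trans h2.symm))).symm

theorem max_of_isField_stalk (x : X) (h : IsField (X.presheaf.stalk x)) (z : X) (hz : z ⤳ x) : z = x := by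
  obtain ⟨q, rfl⟩ : z ∈ Set.range (X.fromSpecStalk x) := Scheme.range_fromSpecStalk.ge hz
  have hmax : maximalIdeal (X.presheaf.stalk x) = ⊥ := IsLocalRing.isField_iff_maximalIdeal_eq.1 h
  have hq : (show PrimeSpectrum (X.presheaf.stalk x) from q) = IsLocalRing.closedPoint (X.presheaf.stalk x) :=
    PrimeSpectrum.ext (le_antisymm (IsLocalRing.le_maximalIdeal q.2.ne_top)
      ((show IsLocalRing.maximalIdeal _ ≤ _ from hmax.le.trans bot_le)))
  exact (congrArg (X.fromSpecStalk x) hq).trans Scheme.fromSpecStalk_closedPoint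

theorem exists_max_generization (x : X) [IsDomain (X.presheaf.stalk x)] :
    ∃ η, η ⤳ x ∧ ∀ z, z ⤳ η → z = η := by
  let R := X.presheaf.stalk x
  let q₀ : PrimeSpectrum R := ⟨⊥, Ideal.isPrime_bot⟩
  have hx : X.fromSpecStalk x q₀ ⤳ x := Scheme.range_fromSpecStalk.le ⟨q₀, rfl⟩
  refine ⟨_, hx, fun z hz => ?_⟩
  obtain ⟨q, rfl⟩ : z ∈ Set.range (X.fromSpecStalk x) := Scheme.range_fromSpecStalk.ge (hz.trans hx)
  have hle : (show PrimeSpectrum R from q) ≤ q₀ :=
    (PrimeSpectrum.le_iff_specializes (show PrimeSpectrum R from q) q₀).2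
      ((X.fromSpecStalk x).isEmbedding.isInducing.specializes_iff.1 hz)
  have hq : (show PrimeSpectrum R from q) = q₀ := le_antisymm hle (show ⊥ ≤ _ from bot_le)
  exact congrArg (X.fromSpecStalk x) hq

/-- A function non zero at a point of a locally integral scheme is a unit at a maximal point above it. -/
theorem isUnit_germ_of_max {U : X.Opens} (hU : IsAffineOpen U) {x η : X} (hx : x ∈ U) (hη : η ∈ U) (hsp : η ⤳ x)
    [IsDomain (X.presheaf.stalk x)] [IsDomain (X.presheaf.stalk η)] (hmax : ∀ z, z ⤳ η → z = η)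
    (r : Γ(X, U)) (hr : X.presheaf.germ U x hx r ≠ 0) : IsUnit (X.presheaf.germ U η hη r) := by
  letI := TopCat.Presheaf.algebra_section_stalk X.presheaf (⟨η, hη⟩ : U)
  haveI := hU.isLocalization_stalk ⟨η, hη⟩
  letI := (isField_stalk_of_max η hmax).toField
  refine isUnit_iff_ne_zero.2 fun h0 => hr ?_
  have h0' : algebraMap Γ(X, U) (X.presheaf.stalk η) r = 0 := h0
  obtain ⟨⟨s, hs⟩, hsr⟩ :=
    (IsLocalization.map_eq_zero_iff (hU.primeIdealOf ⟨η, hη⟩).asIdeal.primeCompl _ r).1 h0'
  have hsx : X.presheaf.germ U x hx s ≠ 0 := by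
    intro hz
    have hsη : IsUnit (X.presheaf.germ U η hη s) := (M1.isUnit_germ_iff hU hη s).2 hs
    rw [← TopCat.Presheaf.germ_stalkSpecializes_apply X.presheaf hx hsp, hz, map_zero] at hsη
    exact not_isUnit_zero hsη
  have := congrArg (X.presheaf.germ U x hx) hsr
  rw [map_mul, map_zero] at this
  exact (mul_eq_zero.1 this).resolve_left hsx

variable [Coh.IsQCoh F] (hint : ∀ x : X, IsDomain (X.presheaf.stalk x))

include hint in
theorem torsion_top_iff :
    (∀ x : X, Submodule.torsion (X.presheaf.stalk x) (F.presheaf.stalk x) = ⊤) ↔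
      ∀ x : X, (∀ z, z ⤳ x → z = x) → Subsingleton (F.presheaf.stalk x) := by
  constructor
  · intro h x hmax
    haveI := hint x
    letI := (isField_stalk_of_max x hmax).toField
    refine subsingleton_of_forall_eq 0 fun m => ?_
    have hm : m ∈ Submodule.torsion (X.presheaf.stalk x) (F.presheaf.stalk x) := by rw [h x]; trivial
    obtain ⟨⟨r, hr⟩, hrm⟩ := (Submodule.mem_torsion_iff m).1 hm
    exact (IsUnit.smul_eq_zero (isUnit_iff_ne_zero.2 (nonZeroDivisors.ne_zero hr))).1 hrm
  · intro h x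
    haveI := hint x
    refine eq_top_iff.2 fun m _ => ?_
    obtain ⟨V, hxV, t, rfl⟩ := F.presheaf.exists_germ_eq m
    obtain ⟨W, hW, hxW, hWV⟩ := exists_isAffineOpen_mem_and_subset (U := V) hxV
    rw [← M1.germ_mres F hWV hxW]
    obtain ⟨η, hη, hmax⟩ := exists_max_generization x
    have hηW : η ∈ W := hη.mem_open W.2 hxW
    haveI := h η hmax
    obtain ⟨r, hr, hr0⟩ := M1.exists_smul_eq_zero_of_germ_eq_zero F hW hηW _ (Subsingleton.elim _ _ :
      F.presheaf.germ W η hηW (M1.mres F hWV t) = 0)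
    refine (Submodule.mem_torsion_iff _).2 ⟨⟨X.presheaf.germ W x hxW r, mem_nonZeroDivisors_of_ne_zero fun hz => ?_⟩, ?_⟩
    · haveI := hint η
      rw [← TopCat.Presheaf.germ_stalkSpecializes_apply X.presheaf hxW hη, hz, map_zero] at hr
      exact not_isUnit_zero hr
    · exact (M1.germ_smul F hxW r (M1.mres F hWV t)).symm.trans ((congrArg _ hr0).trans (map_zero _))

include hint in
theorem torsion_bot_iff :
    (∀ x : X, Submodule.torsion (X.presheaf.stalk x) (F.presheaf.stalk x) = ⊥) ↔
      ∀ x ∈ AssSch.Ass F, ∀ z, z ⤳ x → z = x := by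
  constructor
  · intro h x hx
    haveI := hint x
    refine max_of_isField_stalk x (by_contra fun hf => ?_)
    obtain ⟨hp, m, hm⟩ := (hx : Curv2.IsAssPoint F x)
    obtain ⟨r, hr, hr0⟩ := Submodule.exists_mem_ne_zero_of_ne_bot
      (fun hb => hf (IsLocalRing.isField_iff_maximalIdeal_eq.2 hb))
    refine hp.ne_top ?_
    have hm0 : m = 0 := by
      rw [← Submodule.mem_bot (X.presheaf.stalk x), ← h x, Submodule.mem_torsion_iff]
      by_cases hm' : m = 0
      · exact ⟨1, by rw [hm', smul_zero]⟩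
      · rw [hm] at hr
        obtain ⟨k, hk⟩ := hr
        rw [Submodule.mem_colon_singleton, Submodule.mem_bot] at hk
        exact ⟨⟨r ^ k, pow_mem (mem_nonZeroDivisors_of_ne_zero hr0) k⟩, hk⟩
    rw [hm, Ideal.eq_top_iff_one]
    exact ⟨1, by rw [Submodule.mem_colon_singleton, Submodule.mem_bot, hm0, smul_zero]⟩
  · intro h x
    haveI := hint x
    refine eq_bot_iff.2 fun m hm => (Submodule.mem_bot _).2 ?_
    obtain ⟨⟨r', hr'⟩, hrm⟩ := (Submodule.mem_torsion_iff m).1 hm
    by_contra hm0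
    obtain ⟨V, hxV, t, rfl⟩ := F.presheaf.exists_germ_eq m
    obtain ⟨V', hxV', r, rfl⟩ := X.presheaf.exists_germ_eq r'
    obtain ⟨W, hW, hxW, hWV⟩ := exists_isAffineOpen_mem_and_subset (U := V ⊓ V') ⟨hxV, hxV'⟩
    have h1 : W ≤ V := hWV.trans inf_le_left
    have h2 : W ≤ V' := hWV.trans inf_le_right
    rw [← M1.germ_mres F h1 hxW] at hm0 hrm
    obtain ⟨z, hzW, hzx, hwa, hz0⟩ := WA.exists_weakAss hW hxW _ hm0
    have hzmax := h z (AssPts11.mem_ass_iff.2 hwa)
    haveI := hint z
    let r₁ : Γ(X, W) := X.presheaf.map (homOfLE h2).op r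
    have hr₁ : X.presheaf.germ W x hxW r₁ = X.presheaf.germ V' x hxV' r :=
      TopCat.Presheaf.germ_res_apply X.presheaf (homOfLE h2) x hxW r
    have hu : IsUnit (X.presheaf.germ W z hzW r₁) :=
      isUnit_germ_of_max hW hxW hzW hzx hzmax r₁ (by rw [hr₁]; exact nonZeroDivisors.ne_zero hr')
    have h0 : F.presheaf.germ W x hxW (r₁ • M1.mres F h1 t) = 0 := by
      rw [M1.germ_smul, hr₁]
      exact hrm
    obtain ⟨a, ha, ha0⟩ := M1.exists_smul_eq_zero_of_germ_eq_zero F hW hxW _ h0
    have haz : IsUnit (X.presheaf.germ W z hzW a) := by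
      rw [← TopCat.Presheaf.germ_stalkSpecializes_apply X.presheaf hxW hzx]
      exact ha.map _
    have := congrArg (F.presheaf.germ W z hzW) ha0
    rw [M1.germ_smul, M1.germ_smul, map_zero, haz.smul_eq_zero, hu.smul_eq_zero] at this
    exact hz0 this

end Abs

variable {X S : Scheme.{u}} (f : X ⟶ S) [LocallyOfFinitePresentation f] (F : X.Modules)

theorem max_fiber_iff (s : S) (z : f.fiber s) :
    (∀ z', z' ⤳ z → z' = z) ↔ f.fiberι s z ∉ upSet f Set.univ (rd f (f.fiberι s z) + 1) := by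
  constructor
  · rintro h ⟨x', hsp, he, -, hn⟩
    obtain ⟨z', rfl⟩ : x' ∈ Set.range (f.fiberι s) := (f.range_fiberι s).ge (he.trans (fiberι_base f s z))
    rw [h z' ((f.fiberι s).isEmbedding.isInducing.specializes_iff.1 hsp)] at hn
    omega
  · intro h z' hsp
    by_contra hne
    have hsp' := hsp.map (f.fiberι s).continuous
    have he : f (f.fiberι s z') = f (f.fiberι s z) := (fiberι_base f s z').trans (fiberι_base f s z).symm
    exact h ⟨_, hsp', he, trivial, rd_lt_of_specializes f hsp'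
      (fun e => hne ((f.fiberι s).isEmbedding.injective e)) he⟩

/-- Degree `n` maximal points of the fibre in the support. -/
def torBad (n : ℕ) : Set X := suppSet f F \ upSet f Set.univ (n + 1)

/-- Degree `n` non maximal associated points of the fibre. -/
def tfBad (n : ℕ) : Set X := depthSet f F n ∩ upSet f Set.univ (n + 1)

theorem fiber_torsion_top_iff (hF : CohB1.IsFP F) (s : S)
    (hint : ∀ x : ↥(f.fiber s), IsDomain ((f.fiber s).presheaf.stalk x)) :
    (∀ x : ↥(f.fiber s), Submodule.torsion ((f.fiber s).presheaf.stalk x)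
      (((Scheme.Modules.pullback (f.fiberι s)).obj F).presheaf.stalk x) = ⊤) ↔
      {n | s ∈ f '' upSet f (torBad f F n) n} = ∅ := by
  haveI := M1.isFP_isQCoh (M1.isFP_pullback (f.fiberι s) hF)
  rw [torsion_top_iff hint, Set.eq_empty_iff_forall_notMem]
  constructor
  · intro h n hn
    obtain ⟨x, ⟨hsupp, hup⟩, hs, hrd⟩ := (mem_image_upSet f).1 hn
    obtain ⟨z, rfl⟩ : x ∈ Set.range (f.fiberι s) := (f.range_fiberι s).ge hs
    have hle : rd f (f.fiberι s z) ≤ n :=
      Nat.le_of_not_lt fun hlt => hup ⟨_, specializes_rfl, rfl, trivial, hlt⟩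
    have hz : z ∈ CohB1.support ((Scheme.Modules.pullback (f.fiberι s)).obj F) :=
      (support_pullback_fiberι f F hF s).ge hsupp
    exact hz (h z ((max_fiber_iff f s z).2 (by rw [le_antisymm hle hrd]; exact hup)))
  · intro h z hmax
    by_contra hne
    refine h (rd f (f.fiberι s z)) ((mem_image_upSet f).2 ⟨_, ⟨?_, (max_fiber_iff f s z).1 hmax⟩, fiberι_base f s z, le_rfl⟩)
    exact (support_pullback_fiberι f F hF s).le hne

theorem fiber_torsion_bot_iff (hF : CohB1.IsFP F) (s : S)
    (hint : ∀ x : ↥(f.fiber s), IsDomain ((f.fiber s).presheaf.stalk x)) :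
    (∀ x : ↥(f.fiber s), Submodule.torsion ((f.fiber s).presheaf.stalk x)
      (((Scheme.Modules.pullback (f.fiberι s)).obj F).presheaf.stalk x) = ⊥) ↔
      {n | s ∈ f '' upSet f (tfBad f F n) n} = ∅ := by
  haveI := M1.isFP_isQCoh (M1.isFP_pullback (f.fiberι s) hF)
  rw [torsion_bot_iff hint, Set.eq_empty_iff_forall_notMem]
  constructor
  · intro h n hn
    obtain ⟨x, ⟨hT, hup⟩, hs, hrd⟩ := (mem_image_upSet f).1 hn
    obtain ⟨z, rfl⟩ : x ∈ Set.range (f.fiberι s) := (f.range_fiberι s).ge hs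
    obtain ⟨h0, hr⟩ := (depthSet_iff f F).1 ⟨hT, hrd⟩
    exact (max_fiber_iff f s z).1 (h z ((mem_ass_iff f F hF s z).2 h0)) (by rw [hr]; exact hup)
  · intro h z hz
    rw [max_fiber_iff f]
    intro hup
    refine h (rd f (f.fiberι s z)) ((mem_image_upSet f).2 ⟨_, ⟨?_, hup⟩, fiberι_base f s z, le_rfl⟩)
    exact ((depthSet_iff f F).2 ⟨(mem_ass_iff f F hF s z).1 hz, rfl⟩).1

theorem isLocallyConstructible_image_level_empty [QuasiCompact f] (B : ℕ → Set X) (hB : ∀ n, IsLocallyConstructible (B n)) :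
    IsLocallyConstructible {s : S | {n | s ∈ f '' upSet f (B n) n} = ∅} :=
  isLocallyConstructible_level (fun n => f '' upSet f (B n) n)
    (fun n => f.isLocallyConstructible_image (isLocallyConstructible_upSet f (hB n) n))
    (fun U hUo hU => by
      obtain ⟨K, hK⟩ := exists_rd_bound f hUo hU
      refine ⟨K, fun s hs n hn => ?_⟩
      obtain ⟨x, -, he, hn'⟩ := (mem_image_upSet f).1 hn
      exact hn'.trans (hK x (he.symm ▸ hs))) ∅

theorem isLocallyConstructible_torBad (hF : CohB1.IsFP F) (n : ℕ) : IsLocallyConstructible (torBad f F n) :=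
  (isLocallyConstructible_suppSet f F hF).inter
    (AnPtsTop.isLocallyConstructible_compl (isLocallyConstructible_upSet f IsLocallyConstructible.univ _))

theorem isLocallyConstructible_tfBad (hF : CohB1.IsFP F) (n : ℕ) : IsLocallyConstructible (tfBad f F n) :=
  (isLocallyConstructible_depthSet f F hF n).inter (isLocallyConstructible_upSet f IsLocallyConstructible.univ _)

end Groth.Agent.Cons12
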